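import Mathlib
import Cfsg.Agent.Solvable.Nilpotent

/-!
# Four-groups acting on nilpotent groups of odd order
-/

namespace CfsgLib.FourTransitive

theorem exists_fix_lift {P : Type*} [Group P] {Z : Subgroup P} (hZ : Z ≤ Subgroup.center P)
    {w : MulAut P} (hw : w * w = 1) {k : ℕ} (hk : ∀ x : P, x ^ (2 * k + 1) = 1) {y : P}
    (hy : y⁻¹ * w y ∈ Z) : ∃ s ∈ Z, w (y * s) = y * s := by
  have hww : ∀ x, w (w x) = x := fun x => by rw [← MulAut.mul_apply, hw]; rfl
  set z := y⁻¹ * w y with hz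
  have hwz : w z = z⁻¹ := by rw [hz, map_mul, map_inv, hww, mul_inv_rev, inv_inv]
  refine ⟨z ^ (k + 1), Z.pow_mem hy _, ?_⟩
  have h2 : z ^ (k + 1) * z ^ (k + 1) = z := by
    rw [← pow_add, show k + 1 + (k + 1) = (2 * k + 1) + 1 by ring, pow_succ, hk, one_mul]
  rw [map_mul, map_pow, hwz, inv_pow, show w y = y * z by rw [hz]; group, mul_assoc]
  congr 1
  conv_lhs => enter [1]; rw [← h2]
  group

theorem map_mem_center {P : Type*} [Group P] (e : MulAut P) {z : P} (hz : z ∈ Subgroup.center P) :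
    e z ∈ Subgroup.center P :=
  Subgroup.mem_center_iff.2 fun g => by
    obtain ⟨g, rfl⟩ := e.surjective g
    rw [← map_mul, ← map_mul, Subgroup.mem_center_iff.1 hz g]

/-- The automorphism induced on the central quotient. -/
noncomputable def centralAut {P : Type*} [Group P] (e : MulAut P) : MulAut (P ⧸ Subgroup.center P) :=
  QuotientGroup.congr _ _ e (by
    ext z
    constructor
    · rintro ⟨w, hw, rfl⟩; exact map_mem_center e hw
    · intro hz
      exact ⟨e.symm z, map_mem_center e.symm hz, e.apply_symm_apply z⟩)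

theorem centralAut_mk {P : Type*} [Group P] (e : MulAut P) (y : P) :
    centralAut e (QuotientGroup.mk y) = QuotientGroup.mk (e y) := rfl

theorem centralAut_mul {P : Type*} [Group P] (e f : MulAut P) :
    centralAut (e * f) = centralAut e * centralAut f := by
  ext x
  obtain ⟨y, rfl⟩ := QuotientGroup.mk_surjective x
  rfl

/-- A group of odd order under a four-group `{1, u, v, u v}`: every element is a product of a fixed
point of `u v` and an element of any subgroup containing the fixed points of `u` and of `v`. -/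
theorem exists_mul_of_klein.{w} : ∀ (n : ℕ) (P : Type w) [Group P] [Finite P] [Group.IsNilpotent P],
    Nat.card P = n → Odd n → ∀ u v : MulAut P, u * u = 1 → v * v = 1 → u * v = v * u →
    ∀ H : Subgroup P, (∀ y, u y = y → y ∈ H) → (∀ y, v y = y → y ∈ H) →
      ∀ y, ∃ c h, u (v c) = c ∧ h ∈ H ∧ y = c * h := by
  intro n
  induction n using Nat.strong_induction_on with
  | _ n ih => ?_
  intro P _ _ _ hn hodd u v hu hv huv H hHu hHv y
  by_cases htriv : Subsingleton P
  · exact ⟨1, 1, by simp, H.one_mem, Subsingleton.elim _ _⟩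
  have : Nontrivial P := not_subsingleton_iff_nontrivial.1 htriv
  obtain ⟨k, hk⟩ := hodd
  have hexp : ∀ x : P, x ^ (2 * k + 1) = 1 := fun x => by rw [← hk, ← hn]; exact pow_card_eq_one'
  set Z := Subgroup.center P with hZ
  have hZ1 : Z ≠ ⊥ := by
    have := CfsgLib.Solvable.inf_center_ne_bot (N := (⊤ : Subgroup P)) top_ne_bot
    rwa [top_inf_eq] at this
  have hprod := Subgroup.card_eq_card_quotient_mul_card_subgroup Z
  have hlt : Nat.card (P ⧸ Z) < n := by
    rw [← hn, hprod]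
    exact lt_mul_of_one_lt_right Nat.card_pos ((Subgroup.one_lt_card_iff_ne_bot Z).2 hZ1)
  have hoddq : Odd (Nat.card (P ⧸ Z)) :=
    Odd.of_dvd_nat (show Odd n from ⟨k, hk⟩) ⟨_, hn.symm.trans hprod⟩
  have h1 : centralAut (1 : MulAut P) = 1 := by
    ext x
    obtain ⟨y, rfl⟩ := QuotientGroup.mk_surjective x
    rfl
  have hlift : ∀ e : MulAut P, e * e = 1 → ∀ x : P, centralAut e (QuotientGroup.mk x) = QuotientGroup.mk x →
      ∃ s ∈ Z, e (x * s) = x * s := by
    intro e he x hx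
    rw [centralAut_mk, eq_comm, QuotientGroup.eq] at hx
    exact exists_fix_lift le_rfl he hexp hx
  obtain ⟨cq, hq, hcq, hhq, hy⟩ := ih _ hlt (P ⧸ Z) rfl hoddq (centralAut u) (centralAut v)
    (by rw [← centralAut_mul, hu, h1]) (by rw [← centralAut_mul, hv, h1])
    (by rw [← centralAut_mul, ← centralAut_mul, huv]) (H.map (QuotientGroup.mk' Z))
    (fun x hx => by
      obtain ⟨x, rfl⟩ := QuotientGroup.mk_surjective x
      obtain ⟨s, hs, hxs⟩ := hlift u hu x hx
      exact ⟨x * s, hHu _ hxs, by simp [(QuotientGroup.eq_one_iff s).2 hs]⟩)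
    (fun x hx => by
      obtain ⟨x, rfl⟩ := QuotientGroup.mk_surjective x
      obtain ⟨s, hs, hxs⟩ := hlift v hv x hx
      exact ⟨x * s, hHv _ hxs, by simp [(QuotientGroup.eq_one_iff s).2 hs]⟩)
    (QuotientGroup.mk y)
  obtain ⟨h, hh, rfl⟩ := hhq
  obtain ⟨c₀, rfl⟩ := QuotientGroup.mk_surjective cq
  have huv2 : (u * v) * (u * v) = 1 := by
    rw [mul_assoc, ← mul_assoc v, ← huv, mul_assoc u, hv, mul_one, hu]
  obtain ⟨s, hs, hcs⟩ := hlift (u * v) huv2 c₀ (by rw [centralAut_mul, MulAut.mul_apply]; exact hcq)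
  set c := c₀ * s with hc
  -- the central remainder
  obtain ⟨z, hzdef⟩ : ∃ z, z = (c * h)⁻¹ * y := ⟨_, rfl⟩
  have hz : z ∈ Z := by
    rw [hzdef]
    rw [← QuotientGroup.eq, QuotientGroup.mk_mul, hy, hc, QuotientGroup.mk_mul,
      (QuotientGroup.eq_one_iff s).2 hs, mul_one]
    rfl
  have hcom : ∀ a ∈ Z, ∀ b : P, Commute a b := fun a ha b => (Subgroup.mem_center_iff.1 ha b).symm
  have huu : ∀ x, u (u x) = x := fun x => by rw [← MulAut.mul_apply, hu]; rfl
  have hvv : ∀ x, v (v x) = x := fun x => by rw [← MulAut.mul_apply, hv]; rfl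
  have huvx : ∀ x, u (v x) = v (u x) := fun x => by rw [← MulAut.mul_apply, huv]; rfl
  obtain ⟨a, ha⟩ : ∃ a, a = z * u z := ⟨_, rfl⟩
  obtain ⟨i, hi⟩ : ∃ i, i = z * (u z)⁻¹ := ⟨_, rfl⟩
  obtain ⟨b, hb⟩ : ∃ b, b = i * v i := ⟨_, rfl⟩
  obtain ⟨j, hj⟩ : ∃ j, j = i * (v i)⁻¹ := ⟨_, rfl⟩
  have hzu : u z ∈ Z := map_mem_center u hz
  have hiZ : i ∈ Z := hi ▸ Z.mul_mem hz (Z.inv_mem hzu)
  have hvi : v i ∈ Z := map_mem_center v hiZ
  have haH : a ∈ H := hHu a (by rw [ha, map_mul, huu, (hcom z hz _).eq])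
  have hbH : b ∈ H := hHv b (by rw [hb, map_mul, hvv, (hcom i hiZ _).eq])
  have hui : u i = i⁻¹ := by rw [hi, map_mul, map_inv, huu, mul_inv_rev, inv_inv]
  have hvj : v j = j⁻¹ := by rw [hj, map_mul, map_inv, hvv, mul_inv_rev, inv_inv]
  have huj : u j = j⁻¹ := by
    rw [hj, map_mul, map_inv, hui, huvx, hui, map_inv, inv_inv, mul_inv_rev, inv_inv]
    exact ((hcom i hiZ _).inv_left).eq
  have huvj : u (v j) = j := by rw [hvj, map_inv, huj, inv_inv]
  have hz4 : z ^ 4 = j * (b * a ^ 2) := by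
    have e1 : j * b = i ^ 2 := by
      rw [hj, hb, mul_assoc, ← mul_assoc (v i)⁻¹, ← (hcom i hiZ ((v i)⁻¹)).eq, mul_assoc i, inv_mul_cancel,
        mul_one, pow_two]
    have e2 : i * a = z ^ 2 := by
      rw [hi, ha, mul_assoc, ← mul_assoc (u z)⁻¹, ← (hcom z hz ((u z)⁻¹)).eq, mul_assoc z,
        inv_mul_cancel, mul_one, pow_two]
    rw [← mul_assoc, e1, ← (hcom i hiZ a).mul_pow, e2, ← pow_mul]
  set q := (k + 1) * (k + 1) with hqdef
  have hzq : z = j ^ q * (b * a ^ 2) ^ q := by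
    have hjc : Commute j (b * a ^ 2) := hcom j (hj ▸ Z.mul_mem hiZ (Z.inv_mem hvi)) _
    rw [← hjc.mul_pow, ← hz4, ← pow_mul, show 4 * q = (2 * k + 1) * (2 * k + 3) + 1 by rw [hqdef]; ring,
      pow_succ, pow_mul, hexp, one_pow, one_mul]
  refine ⟨c * j ^ q, h * (b * a ^ 2) ^ q, ?_, H.mul_mem hh (H.pow_mem (H.mul_mem hbH (H.pow_mem haH 2)) q), ?_⟩
  · rw [map_mul, map_mul, map_pow, map_pow, huvj, hc]
    rw [show u (v (c₀ * s)) = c₀ * s from hcs]
  · have hjZ : j ^ q ∈ Z := Z.pow_mem (hj ▸ Z.mul_mem hiZ (Z.inv_mem hvi)) q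
    calc y = c * h * z := by rw [hzdef]; group
      _ = c * (h * j ^ q) * (b * a ^ 2) ^ q := by rw [hzq]; group
      _ = c * j ^ q * (h * (b * a ^ 2) ^ q) := by rw [← (hcom _ hjZ h).eq]; group

end CfsgLib.FourTransitive
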