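import Mathlib
import Cfsg.Agent.FourTransitive.KleinAction

/-!
# Four-transitive groups with four-point stabilisers of odd order: basic tools
-/

namespace CfsgLib.FourTransitive

open Equiv MulAction

variable {α : Type*}

/-- The pointwise stabiliser in `G` of four points. -/
def R (G : Subgroup (Perm α)) (x : Fin 4 ↪ α) : Subgroup (Perm α) where
  carrier := {g | g ∈ G ∧ ∀ i, g (x i) = x i}
  one_mem' := ⟨G.one_mem, fun _ => rfl⟩
  mul_mem' := fun {a b} ha hb => ⟨G.mul_mem ha.1 hb.1, fun i => by rw [Perm.mul_apply, hb.2, ha.2]⟩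
  inv_mem' := fun {a} ha => ⟨G.inv_mem ha.1, fun i => by
    rw [Perm.inv_eq_iff_eq]; exact (ha.2 i).symm⟩

/-- `g` acts on the four points as `σ`. -/
def Acts (x : Fin 4 ↪ α) (g : Perm α) (σ : Perm (Fin 4)) : Prop := ∀ i, g (x i) = x (σ i)

/-- the pattern fixing the first two points -/
def σA : Perm (Fin 4) := swap 2 3
/-- the pattern fixing the last two points -/
def σB : Perm (Fin 4) := swap 0 1
/-- the double transposition -/
def σT : Perm (Fin 4) := σB * σA

theorem Acts.mul {x : Fin 4 ↪ α} {g h : Perm α} {σ τ : Perm (Fin 4)} (hg : Acts x g σ)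
    (hh : Acts x h τ) : Acts x (g * h) (σ * τ) := fun i => by
  rw [Perm.mul_apply, Perm.mul_apply, hh, hg]

theorem Acts.inv {x : Fin 4 ↪ α} {g : Perm α} {σ : Perm (Fin 4)} (hg : Acts x g σ) :
    Acts x g⁻¹ σ⁻¹ := fun i => by
  rw [Perm.inv_eq_iff_eq, hg]; simp

theorem Acts.pow {x : Fin 4 ↪ α} {g : Perm α} {σ : Perm (Fin 4)} (hg : Acts x g σ) (m : ℕ) :
    Acts x (g ^ m) (σ ^ m) := by
  induction m with
  | zero => intro i; rfl
  | succ m ih => rw [pow_succ, pow_succ]; exact ih.mul hg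

variable {G : Subgroup (Perm α)}

theorem acts_one_of_mem {x : Fin 4 ↪ α} {r : Perm α} (hr : r ∈ R G x) : Acts x r 1 := hr.2

theorem mem_R_of_acts_one {x : Fin 4 ↪ α} {g : Perm α} (hg : g ∈ G) (h : Acts x g 1) : g ∈ R G x :=
  ⟨hg, h⟩

/-- moving the four points by `g` conjugates the stabiliser -/
theorem map_conj_R {g : Perm α} (hg : g ∈ G) (x : Fin 4 ↪ α) :
    (R G x).map (MulAut.conj g).toMonoidHom = R G (x.trans g.toEmbedding) := by
  ext h
  constructor
  · rintro ⟨r, hr, rfl⟩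
    refine ⟨G.mul_mem (G.mul_mem hg hr.1) (G.inv_mem hg), fun i => ?_⟩
    simp [hr.2 i]
  · intro hh
    refine ⟨g⁻¹ * h * g, ⟨G.mul_mem (G.mul_mem (G.inv_mem hg) hh.1) hg, fun i => ?_⟩, by simp [mul_assoc]⟩
    have := hh.2 i
    simp only [Function.Embedding.trans_apply, Equiv.coe_toEmbedding] at this
    simp [this]

theorem R_perm (x : Fin 4 ↪ α) (π : Perm (Fin 4)) : R G (π.toEmbedding.trans x) = R G x := by
  ext h
  exact and_congr_right fun _ => ⟨fun hh i => by simpa using hh (π.symm i), fun hh i => hh (π i)⟩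

/-- four distinct points as an embedding -/
def emb4 (a b c d : α) (hab : a ≠ b) (hac : a ≠ c) (had : a ≠ d) (hbc : b ≠ c) (hbd : b ≠ d)
    (hcd : c ≠ d) : Fin 4 ↪ α :=
  ⟨![a, b, c, d], by
    intro i j
    fin_cases i <;> fin_cases j <;>
      simp [hab, hab.symm, hac, hac.symm, had, had.symm, hbc, hbc.symm, hbd, hbd.symm, hcd, hcd.symm]⟩

/-- The standing hypotheses. -/
structure Hyp (G : Subgroup (Perm α)) : Prop where
  four : IsMultiplyPretransitive G α 4
  odd : ∀ x : Fin 4 ↪ α, Odd (Nat.card (R G x))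

theorem Hyp.exists_map (H : Hyp G) (x y : Fin 4 ↪ α) : ∃ g ∈ G, ∀ i, g (x i) = y i := by
  obtain ⟨⟨g, hg⟩, h⟩ := H.four.exists_smul_eq x y
  exact ⟨g, hg, fun i => DFunLike.congr_fun h i⟩

theorem Hyp.card_R_eq (H : Hyp G) (x y : Fin 4 ↪ α) : Nat.card (R G x) = Nat.card (R G y) := by
  obtain ⟨g, hg, hgxy⟩ := H.exists_map x y
  rw [← show x.trans g.toEmbedding = y from Function.Embedding.ext hgxy, ← map_conj_R hg x,
    Subgroup.card_map_of_injective (MulAut.conj g).injective]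

variable [Fintype α] [DecidableEq α]

/-- the fixed points -/
def fixSet (g : Perm α) : Finset α := Finset.univ.filter fun z => g z = z

omit [DecidableEq α] in
theorem mem_fixSet [DecidableEq α] {g : Perm α} {z : α} : z ∈ fixSet g ↔ g z = z := by
  simp [fixSet]

theorem even_card_support {u : Perm α} (hu : u * u = 1) : Even u.support.card := by
  by_cases hu1 : u = 1
  · simp [hu1]
  have ho : orderOf u = 2 := orderOf_eq_prime (by rw [pow_two, hu]) hu1
  obtain ⟨m, hm⟩ := Perm.cycleType_prime_order (σ := u) (ho ▸ Nat.prime_two)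
  rw [← u.sum_cycleType, hm, Multiset.sum_replicate, ho, smul_eq_mul, mul_comm]
  exact even_two_mul _

theorem card_fixSet_add (u : Perm α) : (fixSet u).card + u.support.card = Fintype.card α := by
  rw [← Finset.card_compl_add_card u.support]
  congr 1
  congr 1
  ext z
  simp [fixSet]

theorem fixSet_mod_two {u : Perm α} (hu : u * u = 1) :
    (fixSet u).card % 2 = Fintype.card α % 2 := by
  have h1 := card_fixSet_add u
  obtain ⟨m, hm⟩ := even_card_support hu
  omega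

namespace Hyp

variable (H : Hyp G)
include H

theorem eq_one_of_fix {x : Fin 4 ↪ α} {u : Perm α} (hu : u ∈ G) (hu2 : u * u = 1)
    (hfix : ∀ i, u (x i) = x i) : u = 1 := by
  have h1 : (⟨u, hu, hfix⟩ : R G x) ^ Nat.card (R G x) = 1 := pow_card_eq_one'
  obtain ⟨k, hk⟩ := H.odd x
  have h2 : u ^ Nat.card (R G x) = 1 := congrArg Subtype.val h1
  rwa [hk, pow_succ, pow_mul, pow_two, hu2, one_pow, one_mul] at h2

theorem card_fixSet_le {u : Perm α} (hu : u ∈ G) (hu2 : u * u = 1) (hu1 : u ≠ 1) :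
    (fixSet u).card ≤ 3 := by
  by_contra h
  obtain ⟨s, hs, hs4⟩ := Finset.exists_subset_card_eq (show 4 ≤ (fixSet u).card by omega)
  let e : Fin 4 ↪ α := (s.equivFinOfCardEq hs4).symm.toEmbedding.trans (Function.Embedding.subtype _)
  refine hu1 (H.eq_one_of_fix (x := e) hu hu2 fun i => mem_fixSet.1 (hs ?_))
  exact ((s.equivFinOfCardEq hs4).symm i).2

theorem pow_card_R {x : Fin 4 ↪ α} {g : Perm α} (hg : g ∈ R G x) :
    g ^ Nat.card (R G x) = 1 :=
  congrArg Subtype.val (pow_card_eq_one' (x := (⟨g, hg⟩ : R G x)))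

/-- odd powers of lifts of involutory patterns are involutions -/
theorem exists_invol {x : Fin 4 ↪ α} {g : Perm α} {σ : Perm (Fin 4)} (hg : g ∈ G) (hga : Acts x g σ)
    (hσ : σ * σ = 1) :
    ∃ m : ℕ, g ^ m * g ^ m = 1 ∧ Acts x (g ^ m) σ := by
  refine ⟨Nat.card (R G x), ?_, ?_⟩
  · have hgg : g * g ∈ R G x := mem_R_of_acts_one (G.mul_mem hg hg) (hσ ▸ hga.mul hga)
    rw [← pow_add, ← two_mul, pow_mul, pow_two]
    exact H.pow_card_R hgg
  · obtain ⟨k, hk⟩ := H.odd x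
    have := hga.pow (Nat.card (R G x))
    rwa [hk, pow_succ σ, pow_mul, pow_two, hσ, one_pow, one_mul, ← hk] at this

/-- involutions with the same pattern are conjugate under the stabiliser -/
theorem exists_conj {x : Fin 4 ↪ α} {u v : Perm α} {σ : Perm (Fin 4)} (hu : u ∈ G) (hv : v ∈ G)
    (hu2 : u * u = 1) (hv2 : v * v = 1) (hua : Acts x u σ) (hva : Acts x v σ) :
    ∃ r ∈ R G x, r ∈ Subgroup.zpowers (u * v) ∧ r * u * r⁻¹ = v := by
  set w := u * v with hw
  have hσ2 : Acts x (u * u) (σ * σ) := hua.mul hua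
  have hwR : w ∈ R G x := by
    refine mem_R_of_acts_one (G.mul_mem hu hv) fun i => ?_
    rw [hua.mul hva i, ← hσ2 i, hu2]; rfl
  obtain ⟨k, hk⟩ := H.odd x
  have hwm : w ^ (2 * k + 1) = 1 := hk ▸ H.pow_card_R hwR
  have hui : u⁻¹ = u := inv_eq_of_mul_eq_one_right hu2
  have hconj : ∀ j : ℕ, u * (w ^ j)⁻¹ = w ^ j * u := by
    intro j
    have h1 : u * w⁻¹ * u⁻¹ = w := by
      rw [hw, mul_inv_rev, inv_eq_of_mul_eq_one_right hv2, hui]
      calc u * (v * u) * u = u * v * (u * u) := by group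
        _ = u * v := by rw [hu2, mul_one]
    have h2 : u * (w ^ j)⁻¹ * u⁻¹ = w ^ j := by rw [← inv_pow, ← conj_pow, h1]
    exact mul_inv_eq_iff_eq_mul.1 h2
  refine ⟨w ^ k, pow_mem hwR k, pow_mem (Subgroup.mem_zpowers w) k, ?_⟩
  rw [mul_assoc, hconj, ← mul_assoc, ← pow_add, ← two_mul,
    show w ^ (2 * k) = w⁻¹ from eq_inv_of_mul_eq_one_left (by rw [← pow_succ]; exact hwm),
    hw, mul_inv_rev, hui, mul_assoc, hu2, mul_one, inv_eq_of_mul_eq_one_right hv2]

end Hyp

/-- `P` is a Sylow `p`-subgroup of the stabiliser of `x`. -/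
def SylowR (G : Subgroup (Perm α)) (x : Fin 4 ↪ α) (p : ℕ) (P : Subgroup (Perm α)) : Prop :=
  ∃ Ps : Sylow p (R G x), P = (Ps : Subgroup (R G x)).map (R G x).subtype

theorem exists_sylowR (G : Subgroup (Perm α)) (x : Fin 4 ↪ α) (p : ℕ) : ∃ P, SylowR G x p P := by
  obtain ⟨Ps⟩ := (inferInstance : Nonempty (Sylow p (R G x)))
  exact ⟨_, Ps, rfl⟩

omit [Fintype α] [DecidableEq α] in
theorem SylowR.le {x : Fin 4 ↪ α} {p : ℕ} {P : Subgroup (Perm α)} (hP : SylowR G x p P) :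
    P ≤ R G x := by
  obtain ⟨Ps, rfl⟩ := hP
  exact Subgroup.map_subtype_le _

omit [Fintype α] [DecidableEq α] in
theorem SylowR.isPGroup {x : Fin 4 ↪ α} {p : ℕ} {P : Subgroup (Perm α)} (hP : SylowR G x p P) :
    IsPGroup p P := by
  obtain ⟨Ps, rfl⟩ := hP
  exact Ps.isPGroup'.map _

/-- a `R`-orbit whose length is prime to `p`, through a point fixed by a Sylow `p`-subgroup -/
theorem SylowR.not_dvd_orbit {x : Fin 4 ↪ α} {p : ℕ} [Fact p.Prime] {P : Subgroup (Perm α)}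
    (hP : SylowR G x p P) {f : α} (hf : ∀ g ∈ P, g f = f) : ¬ p ∣ (orbit (R G x) f).ncard := by
  obtain ⟨Ps, rfl⟩ := hP
  intro hd
  have hle : (Ps : Subgroup (R G x)) ≤ stabilizer (R G x) f := fun g hg => hf _ ⟨g, hg, rfl⟩
  refine Ps.not_dvd_index (dvd_trans ?_ (Subgroup.index_dvd_of_le hle))
  rwa [index_stabilizer]

/-- Witt's lemma: every pattern has a lift normalising `P`. -/
theorem SylowR.exists_lift (H : Hyp G) {x : Fin 4 ↪ α} {p : ℕ} [Fact p.Prime]
    {P : Subgroup (Perm α)} (hP : SylowR G x p P) (σ : Perm (Fin 4)) :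
    ∃ g ∈ G ⊓ Subgroup.normalizer (P : Set (Perm α)), Acts x g σ := by
  obtain ⟨Ps, rfl⟩ := hP
  set P := (Ps : Subgroup (R G x)).map (R G x).subtype with hPdef
  obtain ⟨g, hg, hgx⟩ := H.exists_map x (σ.toEmbedding.trans x)
  have hga : Acts x g σ := hgx
  set P' := P.map (MulAut.conj g).toMonoidHom with hP'
  have hP'le : P' ≤ (R G x) := by
    rintro _ ⟨s, hs, rfl⟩
    obtain ⟨s', -, rfl⟩ := hs
    refine mem_R_of_acts_one (G.mul_mem (G.mul_mem hg s'.2.1) (G.inv_mem hg)) ?_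
    have := (hga.mul (acts_one_of_mem s'.2)).mul hga.inv
    simpa using this
  have hcard : Nat.card (P'.subgroupOf (R G x)) = Nat.card (Ps : Subgroup (R G x)) := by
    rw [Nat.card_congr (Subgroup.subgroupOfEquivOfLe hP'le).toEquiv, hP',
      Subgroup.card_map_of_injective (MulAut.conj g).injective,
      Subgroup.card_map_of_injective (R G x).subtype_injective]
  let T : Sylow p (R G x) := Sylow.ofCard (P'.subgroupOf (R G x)) (hcard.trans Ps.card_eq_multiplicity)
  obtain ⟨s, hs⟩ := MulAction.exists_smul_eq (R G x) T Ps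
  refine ⟨(s : Perm α) * g, ⟨G.mul_mem s.2.1 hg, ?_⟩, ?_⟩
  · refine Subgroup.mem_normalizer_iff_map_conj_eq.2 ?_
    refine Subgroup.eq_of_le_of_card_ge ?_
      (Subgroup.card_map_of_injective (MulAut.conj ((s : Perm α) * g)).injective).ge
    rintro _ ⟨y, hy, rfl⟩
    have hy' : g * y * g⁻¹ ∈ P' := ⟨y, hy, rfl⟩
    have hmem : s * ⟨_, hP'le hy'⟩ * s⁻¹ ∈ ((s • T : Sylow p (R G x)) : Subgroup (R G x)) := by
      rw [Sylow.coe_subgroup_smul]
      exact ⟨⟨_, hP'le hy'⟩, hy', rfl⟩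
    rw [hs] at hmem
    refine ⟨_, hmem, ?_⟩
    simp [mul_assoc]
  · have := (acts_one_of_mem s.2).mul hga
    rwa [one_mul] at this

/-- Commuting lifts of commuting involutory patterns normalising `P`. -/
theorem SylowR.exists_klein (H : Hyp G) {x : Fin 4 ↪ α} {p : ℕ} [Fact p.Prime]
    {P : Subgroup (Perm α)} (hP : SylowR G x p P) {σ τ : Perm (Fin 4)} (hσ : σ * σ = 1)
    (hτ : τ * τ = 1) (hστ : σ * τ = τ * σ) :
    ∃ u v : Perm α, u ∈ G ⊓ Subgroup.normalizer (P : Set (Perm α)) ∧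
      v ∈ G ⊓ Subgroup.normalizer (P : Set (Perm α)) ∧ u * u = 1 ∧ v * v = 1 ∧ u * v = v * u ∧
      Acts x u σ ∧ Acts x v τ := by
  set K := G ⊓ Subgroup.normalizer (P : Set (Perm α)) with hK
  obtain ⟨g₀, hg₀, hg₀a⟩ := hP.exists_lift H σ
  obtain ⟨m, hm, hma⟩ := H.exists_invol hg₀.1 hg₀a hσ
  set u := g₀ ^ m
  have huK : u ∈ K := pow_mem hg₀ m
  obtain ⟨g, hg, hga⟩ := hP.exists_lift H τ
  have hu' : g * u * g⁻¹ ∈ K := mul_mem (mul_mem hg huK) (inv_mem hg)
  have hu'2 : g * u * g⁻¹ * (g * u * g⁻¹) = 1 := by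
    rw [show g * u * g⁻¹ * (g * u * g⁻¹) = g * (u * u) * g⁻¹ by group, hm]; group
  have hu'a : Acts x (g * u * g⁻¹) σ := by
    have := (hga.mul hma).mul hga.inv
    rwa [← hστ, mul_inv_cancel_right] at this
  obtain ⟨r, hrR, hrz, hr⟩ := H.exists_conj hu'.1 huK.1 hu'2 hm hu'a hma
  have hrK : r ∈ K := Subgroup.zpowers_le.2 (mul_mem hu' huK) hrz
  have hcomm : Commute (r * g) u := by
    have : r * g * u * (r * g)⁻¹ = u := by
      conv_rhs => rw [← hr]
      group
    exact mul_inv_eq_iff_eq_mul.1 this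
  have hha : Acts x (r * g) τ := by
    have := (acts_one_of_mem hrR).mul hga
    rwa [one_mul] at this
  obtain ⟨l, hl, hla⟩ := H.exists_invol (G.mul_mem hrR.1 hg.1) hha hτ
  exact ⟨u, (r * g) ^ l, huK, pow_mem (mul_mem hrK hg) l, hm, hl,
    ((hcomm.pow_left l).eq).symm, hma, hla⟩

/-- Two commuting involutions with a single fixed point in a `P`-orbit: every point of the orbit is
reached by an element centralising their product. -/
theorem klein_orbit {p : ℕ} [Fact p.Prime] {P : Subgroup (Perm α)} (hP : IsPGroup p P)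
    (hodd : Odd (Nat.card P)) {u v : Perm α} (hu : u ∈ Subgroup.normalizer (P : Set (Perm α)))
    (hv : v ∈ Subgroup.normalizer (P : Set (Perm α))) (hu2 : u * u = 1) (hv2 : v * v = 1)
    (huv : u * v = v * u) {e : α} (hue : u e = e) (hve : v e = e)
    (huu : ∀ z ∈ orbit P e, u z = z → z = e) (hvu : ∀ z ∈ orbit P e, v z = z → z = e) :
    ∀ z ∈ orbit P e, ∃ c ∈ P, Commute c (u * v) ∧ c e = z := by
  classical
  have : Group.IsNilpotent P := hP.isNilpotent
  let φ := P.normalizerMonoidHom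
  have hfix : ∀ (w : Perm α) (hw : w ∈ Subgroup.normalizer (P : Set (Perm α))), w e = e →
      (∀ z ∈ orbit P e, w z = z → z = e) → ∀ y : P, φ ⟨w, hw⟩ y = y → y ∈ stabilizer P e := by
    intro w hw hwe huniq y hy
    have h1 : w * (y : Perm α) * w⁻¹ = y := congrArg Subtype.val hy
    have h2 : w * (y : Perm α) = y * w := mul_inv_eq_iff_eq_mul.1 h1
    refine huniq _ ⟨y, rfl⟩ ?_
    change (w * (y : Perm α)) e = (y : Perm α) e
    rw [h2, Perm.mul_apply, hwe]
  have hφ2 : ∀ (w : Perm α) (hw : w ∈ Subgroup.normalizer (P : Set (Perm α))), w * w = 1 →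
      φ ⟨w, hw⟩ * φ ⟨w, hw⟩ = 1 := by
    intro w hw h
    rw [← map_mul, show (⟨w, hw⟩ * ⟨w, hw⟩ : Subgroup.normalizer (P : Set (Perm α))) = 1 from
      Subtype.ext h, map_one]
  rintro _ ⟨y, rfl⟩
  obtain ⟨c, h, hc, hh, rfl⟩ := exists_mul_of_klein _ P rfl hodd (φ ⟨u, hu⟩) (φ ⟨v, hv⟩)
    (hφ2 u hu hu2) (hφ2 v hv hv2)
    (by rw [← map_mul, ← map_mul, show (⟨u, hu⟩ * ⟨v, hv⟩ : Subgroup.normalizer (P : Set (Perm α))) =
      ⟨v, hv⟩ * ⟨u, hu⟩ from Subtype.ext huv])
    (stabilizer P e) (hfix u hu hue huu) (hfix v hv hve hvu) y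
  refine ⟨c, c.2, ?_, ?_⟩
  · have h1 : u * (v * (c : Perm α) * v⁻¹) * u⁻¹ = c := congrArg Subtype.val hc
    have h2 : u * v * (c : Perm α) * (u * v)⁻¹ = c := by
      rw [← h1]; group
      conv_rhs => rw [← h1]
      group
    exact (mul_inv_eq_iff_eq_mul.1 h2).symm
  · change (c : Perm α) e = (((c * h : P)) : Perm α) e
    rw [Subgroup.coe_mul, Perm.mul_apply, show (h : Perm α) e = e from hh]

namespace Hyp

variable (H : Hyp G)
include H

/-- the centraliser of an involution, fixing a moved point, is transitive on the other moved points -/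
theorem exists_commute_map {u : Perm α} (hu : u ∈ G) (hu2 : u * u = 1) {c c₁ c₂ : α}
    (hc : u c ≠ c) (h₁ : u c₁ ≠ c₁) (h₁c : c₁ ≠ c) (h₁c' : c₁ ≠ u c)
    (h₂ : u c₂ ≠ c₂) (h₂c : c₂ ≠ c) (h₂c' : c₂ ≠ u c) :
    ∃ g ∈ G, Commute g u ∧ g c = c ∧ g c₁ = c₂ := by
  have huu : ∀ z, u (u z) = z := fun z => by rw [← Perm.mul_apply, hu2]; rfl
  have hne : ∀ {z : α}, z ≠ c → z ≠ u c → u z ≠ c ∧ u z ≠ u c := fun {z} hz hz' =>
    ⟨fun h => hz' (by rw [← h, huu]), fun h => hz (u.injective h)⟩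
  let x := emb4 c (u c) c₁ (u c₁) hc.symm h₁c.symm (hne h₁c h₁c').1.symm h₁c'.symm
    (hne h₁c h₁c').2.symm h₁.symm
  let y := emb4 c (u c) c₂ (u c₂) hc.symm h₂c.symm (hne h₂c h₂c').1.symm h₂c'.symm
    (hne h₂c h₂c').2.symm h₂.symm
  obtain ⟨g, hg, hgxy⟩ := H.exists_map x y
  have hy : Acts y u σT := by
    intro i
    fin_cases i
    exacts [rfl, huu c, rfl, huu c₂]
  have hv2 : g * u * g⁻¹ * (g * u * g⁻¹) = 1 := by
    rw [show g * u * g⁻¹ * (g * u * g⁻¹) = g * (u * u) * g⁻¹ by group, hu2]; group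
  have hva : Acts y (g * u * g⁻¹) σT := by
    intro i
    have hx : u (x i) = x (σT i) := by
      fin_cases i
      exacts [rfl, huu c, rfl, huu c₁]
    rw [← hgxy i, Perm.mul_apply, Perm.mul_apply, Perm.inv_eq_iff_eq.2 rfl, hx, hgxy]
  obtain ⟨r, hr, -, hru⟩ := H.exists_conj (G.mul_mem (G.mul_mem hg hu) (G.inv_mem hg)) hu hv2 hu2 hva hy
  refine ⟨r * g, G.mul_mem hr.1 hg, ?_, ?_, ?_⟩
  · have : r * g * u * (r * g)⁻¹ = u := by
      conv_rhs => rw [← hru]
      group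
    exact mul_inv_eq_iff_eq_mul.1 this
  · rw [Perm.mul_apply, show g c = c from hgxy 0]
    exact hr.2 0
  · rw [Perm.mul_apply, show g c₁ = c₂ from hgxy 2]
    exact hr.2 2

end Hyp

theorem exists_lift_invol (H : Hyp G) (x : Fin 4 ↪ α) {σ : Perm (Fin 4)} (hσ : σ * σ = 1) :
    ∃ u ∈ G, u * u = 1 ∧ Acts x u σ := by
  obtain ⟨g, hg, hgx⟩ := H.exists_map x (σ.toEmbedding.trans x)
  obtain ⟨m, hm, hma⟩ := H.exists_invol hg hgx hσ
  exact ⟨g ^ m, G.pow_mem hg m, hm, hma⟩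

omit [Fintype α] [DecidableEq α] in
/-- elements preserving the four points permute the orbits -/
theorem mem_orbit_of_acts {x : Fin 4 ↪ α} {g : Perm α} {σ : Perm (Fin 4)} (hg : g ∈ G)
    (hga : Acts x g σ) {z w : α} (hw : w ∈ orbit (R G x) z) : g w ∈ orbit (R G x) (g z) := by
  obtain ⟨r, rfl⟩ := hw
  have hm : g * (r : Perm α) * g⁻¹ ∈ R G x := by
    refine mem_R_of_acts_one (G.mul_mem (G.mul_mem hg r.2.1) (G.inv_mem hg)) ?_
    have := (hga.mul (acts_one_of_mem r.2)).mul hga.inv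
    simpa using this
  refine ⟨⟨_, hm⟩, ?_⟩
  change (g * (r : Perm α) * g⁻¹) (g z) = g ((r : Perm α) z)
  simp

omit [Fintype α] [DecidableEq α] in
theorem notMem_range_of_mem_orbit {x : Fin 4 ↪ α} {z w : α} (hz : z ∉ Set.range x)
    (hw : w ∈ orbit (R G x) z) : w ∉ Set.range x := by
  obtain ⟨r, rfl⟩ := hw
  rintro ⟨i, hi⟩
  exact hz ⟨i, (r : Perm α).injective ((r.2.2 i).trans hi)⟩

/-- An invariant orbit contains a fixed point. -/
theorem exists_fixed_in_orbit (H : Hyp G) {x : Fin 4 ↪ α} {u : Perm α} {σ : Perm (Fin 4)}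
    (hu : u ∈ G) (hu2 : u * u = 1) (hua : Acts x u σ) {z : α} (hz : u z ∈ orbit (R G x) z) :
    ∃ f ∈ orbit (R G x) z, u f = f := by
  classical
  set O : Finset α := Finset.univ.filter fun w => w ∈ orbit (R G x) z with hO
  have hmem : ∀ w, w ∈ O ↔ w ∈ orbit (R G x) z := fun w => by simp [hO]
  have hinv : ∀ w, u w ∈ O ↔ w ∈ O := by
    have h1 : ∀ w, w ∈ O → u w ∈ O := fun w hw => by
      rw [hmem] at hw ⊢
      have := mem_orbit_of_acts hu hua hw
      rwa [orbit_eq_iff.2 hz] at this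
    intro w
    refine ⟨fun h => ?_, h1 w⟩
    have := h1 _ h
    rwa [← Perm.mul_apply, hu2] at this
  by_contra! hno
  have hodd : Odd O.card := by
    have : O.card = (orbit (R G x) z).ncard := by
      rw [← Set.ncard_coe_finset]
      congr 1
      ext w
      simp [hmem]
    rw [this, ← index_stabilizer]
    exact Odd.of_dvd_nat (H.odd x) (Subgroup.index_dvd_card _)
  set u' := u.subtypePerm (p := fun w => w ∈ O) hinv
  have hu'2 : u' * u' = 1 := by
    ext w
    change u (u w) = w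
    rw [← Perm.mul_apply, hu2]; rfl
  have hsupp : u'.support = Finset.univ := by
    refine Finset.eq_univ_iff_forall.2 fun w => Perm.mem_support.2 fun h => ?_
    exact hno w ((hmem _).1 w.2) (congrArg Subtype.val h)
  have := even_card_support hu'2
  rw [hsupp, Finset.card_univ, Fintype.card_coe] at this
  exact Nat.not_even_iff_odd.2 hodd this

end CfsgLib.FourTransitive
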