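import Mathlib
import Cfsg.Agent.FourTransitive.Basic

/-!
# Even degree: the four-point stabiliser is trivial
-/

namespace CfsgLib.FourTransitive

open Equiv MulAction

variable {α : Type*} {G : Subgroup (Perm α)}

theorem σA_sq : σA * σA = 1 := by decide
theorem σB_sq : σB * σB = 1 := by decide
theorem σT_sq : σT * σT = 1 := by decide
theorem σA_comm_σB : σA * σB = σB * σA := by decide

theorem Acts.of_perm {x : Fin 4 ↪ α} {π σ τ : Perm (Fin 4)} {g : Perm α}
    (h : Acts (π.toEmbedding.trans x) g σ) (hτ : τ = π * σ * π⁻¹) : Acts x g τ := fun i => by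
  have := h (π⁻¹ i)
  subst hτ
  simpa [Perm.mul_apply] using this

theorem Acts.to_perm {x : Fin 4 ↪ α} {π σ τ : Perm (Fin 4)} {g : Perm α}
    (h : Acts x g τ) (hτ : τ = π * σ * π⁻¹) : Acts (π.toEmbedding.trans x) g σ := fun i => by
  subst hτ
  have := h (π i)
  simpa [Perm.mul_apply] using this

theorem range_perm (x : Fin 4 ↪ α) (π : Perm (Fin 4)) :
    Set.range (π.toEmbedding.trans x) = Set.range x := by
  ext z
  exact ⟨fun ⟨i, hi⟩ => ⟨π i, hi⟩, fun ⟨i, hi⟩ => ⟨π.symm i, by simpa using hi⟩⟩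

variable [Fintype α] [DecidableEq α]

theorem ne_one_of_acts {x : Fin 4 ↪ α} {u : Perm α} {σ : Perm (Fin 4)} (h : Acts x u σ) (hσ : σ ≠ 1) :
    u ≠ 1 := fun e => hσ (Equiv.ext fun i => x.injective (by rw [← h i, e]; rfl))

theorem apply_not_mem_range {x : Fin 4 ↪ α} {u : Perm α} {σ : Perm (Fin 4)} (h : Acts x u σ) {z : α}
    (hz : z ∉ Set.range x) : u z ∉ Set.range x := by
  rintro ⟨i, hi⟩
  refine hz ⟨σ⁻¹ i, u.injective ?_⟩
  rw [h, ← hi]; simp

/-- In even degree the involutions fixing two of the four points fix nothing else. -/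
theorem fixed_eq_of_even (H : Hyp G) (hn : Even (Fintype.card α)) {x : Fin 4 ↪ α} {u : Perm α}
    (hu : u ∈ G) (hu2 : u * u = 1) (hua : Acts x u σA) {z : α} (hz : u z = z) : z = x 0 ∨ z = x 1 := by
  by_contra! hne
  have h0 : u (x 0) = x 0 := hua 0
  have h1 : u (x 1) = x 1 := hua 1
  have hle := H.card_fixSet_le hu hu2 (ne_one_of_acts hua (by decide))
  have hsub : ({x 0, x 1, z} : Finset α) ⊆ fixSet u := by
    intro w hw
    simp only [Finset.mem_insert, Finset.mem_singleton] at hw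
    rw [mem_fixSet]
    rcases hw with rfl | rfl | rfl <;> assumption
  have h3 : ({x 0, x 1, z} : Finset α).card = 3 :=
    Finset.card_eq_three.2 ⟨_, _, _, fun h => absurd (x.injective h) (by decide), hne.1.symm, hne.2.symm, rfl⟩
  have := Finset.card_le_card hsub
  have hpar := fixSet_mod_two hu2
  obtain ⟨m, hm⟩ := hn
  omega

theorem moves_orbit_even (H : Hyp G) (hn : Even (Fintype.card α)) {x : Fin 4 ↪ α} {u : Perm α}
    (hu : u ∈ G) (hu2 : u * u = 1) (hua : Acts x u σA) {z : α} (hz : z ∉ Set.range x) :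
    u z ∉ orbit (R G x) z := by
  intro h
  obtain ⟨f, hf, hff⟩ := exists_fixed_in_orbit H hu hu2 hua h
  rcases fixed_eq_of_even H hn hu hu2 hua hff with rfl | rfl <;>
    exact notMem_range_of_mem_orbit hz hf ⟨_, rfl⟩

/-- At most two orbits outside the four points. -/
theorem two_orbits_even (H : Hyp G) (hn : Even (Fintype.card α)) {x : Fin 4 ↪ α} {u : Perm α}
    (hu : u ∈ G) (hu2 : u * u = 1) (hua : Acts x u σA) {z w : α} (hz : z ∉ Set.range x)
    (hw : w ∉ Set.range x) : w ∈ orbit (R G x) z ∨ w ∈ orbit (R G x) (u z) := by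
  have hmoved : ∀ v, v ∉ Set.range x → u v ≠ v := fun v hv e =>
    moves_orbit_even H hn hu hu2 hua hv (by rw [e]; exact mem_orbit_self v)
  have h2 : u (x 2) = x 3 := hua 2
  have key : ∀ v₁ v₂, v₁ ∉ Set.range x → v₂ ∉ Set.range x →
      ∃ g ∈ G, g (x 2) = x 2 ∧ g (x 3) = x 3 ∧ g v₁ = v₂ ∧
        ((g (x 0) = x 0 ∧ g (x 1) = x 1) ∨ (g (x 0) = x 1 ∧ g (x 1) = x 0)) := by
    intro v₁ v₂ hv₁ hv₂
    obtain ⟨g, hg, hgu, hg2, hgv⟩ := H.exists_commute_map hu hu2 (c := x 2)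
      (by rw [h2]; exact fun h => absurd (x.injective h) (by decide))
      (hmoved v₁ hv₁) (fun h => hv₁ ⟨2, h.symm⟩) (fun h => hv₁ ⟨3, (h.trans h2).symm⟩)
      (hmoved v₂ hv₂) (fun h => hv₂ ⟨2, h.symm⟩) (fun h => hv₂ ⟨3, (h.trans h2).symm⟩)
    have hcom : ∀ v, u (g v) = g (u v) := fun v => by rw [← Perm.mul_apply, ← hgu.eq, Perm.mul_apply]
    have hfix : ∀ i, i = 0 ∨ i = 1 → g (x i) = x 0 ∨ g (x i) = x 1 := by
      intro i hi
      refine fixed_eq_of_even H hn hu hu2 hua ?_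
      rw [hcom]
      congr 1
      rcases hi with rfl | rfl
      exacts [hua 0, hua 1]
    have hne : g (x 0) ≠ g (x 1) := fun h => absurd (x.injective (g.injective h)) (by decide)
    refine ⟨g, hg, hg2, by rw [← h2, ← hcom, hg2], hgv, ?_⟩
    rcases hfix 0 (Or.inl rfl) with a | a <;> rcases hfix 1 (Or.inr rfl) with b | b
    · exact absurd (a.trans b.symm) hne
    · exact Or.inl ⟨a, b⟩
    · exact Or.inr ⟨a, b⟩
    · exact absurd (a.trans b.symm) hne
  by_contra! hno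
  obtain ⟨hw1, hw2⟩ := hno
  have huz := apply_not_mem_range hua hz
  obtain ⟨g, hg, g2, g3, gv, hgd⟩ := key z w hz hw
  obtain ⟨g', hg', g2', g3', gv', hgd'⟩ := key z (u z) hz huz
  have flip : ∀ (g : Perm α) (v : α), g ∈ G → g (x 2) = x 2 → g (x 3) = x 3 → g z = v →
      v ∉ orbit (R G x) z → ((g (x 0) = x 0 ∧ g (x 1) = x 1) ∨ (g (x 0) = x 1 ∧ g (x 1) = x 0)) →
      g (x 0) = x 1 ∧ g (x 1) = x 0 := by
    intro g v hg e2 e3 ev hv hd
    refine hd.resolve_left fun ⟨e0, e1⟩ => hv ⟨⟨g, hg, ?_⟩, ev⟩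
    intro i; fin_cases i <;> assumption
  obtain ⟨e0, e1⟩ := flip g w hg g2 g3 gv hw1 hgd
  obtain ⟨e0', e1'⟩ := flip g' (u z) hg' g2' g3' gv' (moves_orbit_even H hn hu hu2 hua hz) hgd'
  have inv_eq : ∀ a b, g' a = b → g'⁻¹ b = a := fun a b h => by rw [Perm.inv_eq_iff_eq]; exact h.symm
  apply hw2
  refine ⟨⟨g * g'⁻¹, G.mul_mem hg (G.inv_mem hg'), ?_⟩, ?_⟩
  · intro i
    fin_cases i
    · change g (g'⁻¹ (x 0)) = x 0; rw [inv_eq _ _ e1', e1]
    · change g (g'⁻¹ (x 1)) = x 1; rw [inv_eq _ _ e0', e0]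
    · change g (g'⁻¹ (x 2)) = x 2; rw [inv_eq _ _ g2', g2]
    · change g (g'⁻¹ (x 3)) = x 3; rw [inv_eq _ _ g3', g3]
  · change g (g'⁻¹ (u z)) = w
    rw [inv_eq _ _ gv', gv]

/-- Double transpositions preserve the orbits and fix at most one point in each. -/
theorem double_even (H : Hyp G) (hn : Even (Fintype.card α)) {x : Fin 4 ↪ α} {T : Perm α}
    (hT : T ∈ G) (hT2 : T * T = 1) (hTa : Acts x T σT) {z : α} (hz : z ∉ Set.range x) :
    T z ∈ orbit (R G x) z ∧ (∃ f ∈ orbit (R G x) z, T f = f) ∧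
      ∀ f ∈ orbit (R G x) z, ∀ f' ∈ orbit (R G x) z, T f = f → T f' = f' → f = f' := by
  set π : Perm (Fin 4) := swap 0 2 * swap 1 3 with hπ
  obtain ⟨u, hu, hu2, hua⟩ := exists_lift_invol H x σA_sq
  obtain ⟨v, hv, hv2, hva'⟩ := exists_lift_invol H (π.toEmbedding.trans x) σA_sq
  have hva : Acts x v σB := hva'.of_perm (by decide)
  have pres : ∀ z, z ∉ Set.range x → T z ∈ orbit (R G x) z := by
    intro z hz
    have huz := apply_not_mem_range hua hz
    have h1 : v (u z) ∉ orbit (R G x) (u z) := by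
      rw [← R_perm x π]
      exact moves_orbit_even H hn hv hv2 hva' (by rwa [range_perm])
    have h2 := (two_orbits_even H hn hu hu2 hua hz (apply_not_mem_range hva huz)).resolve_right h1
    have hr : T * (v * u)⁻¹ ∈ R G x := by
      refine mem_R_of_acts_one (G.mul_mem hT (G.inv_mem (G.mul_mem hv hu))) ?_
      have := hTa.mul (hva.mul hua).inv
      rwa [σT, mul_inv_cancel] at this
    have h3 : (T * (v * u)⁻¹) ((v * u) z) = T z := by rw [← Perm.mul_apply, inv_mul_cancel_right]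
    rw [← h3, ← orbit_eq_iff.2 h2]
    exact ⟨⟨_, hr⟩, rfl⟩
  have hex : ∀ z, z ∉ Set.range x → ∃ f ∈ orbit (R G x) z, T f = f := fun z hz =>
    exists_fixed_in_orbit H hT hT2 hTa (pres z hz)
  refine ⟨pres z hz, hex z hz, fun f hf f' hf' hff hff' => ?_⟩
  by_contra hne
  obtain ⟨g, hg, hgg⟩ := hex (u z) (apply_not_mem_range hua hz)
  have hdis : ∀ a ∈ orbit (R G x) z, a ≠ g := by
    rintro a ha rfl
    refine moves_orbit_even H hn hu hu2 hua hz ?_
    have := orbit_eq_iff.2 hg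
    rw [← orbit_eq_iff.2 ha, this]
    exact mem_orbit_self _
  have hsub : ({f, f', g} : Finset α) ⊆ fixSet T := by
    intro w hw
    simp only [Finset.mem_insert, Finset.mem_singleton] at hw
    rw [mem_fixSet]
    rcases hw with rfl | rfl | rfl <;> assumption
  have h3 : ({f, f', g} : Finset α).card = 3 :=
    Finset.card_eq_three.2 ⟨_, _, _, hne, hdis f hf, hdis f' hf', rfl⟩
  have := Finset.card_le_card hsub
  have hle := H.card_fixSet_le hT hT2 (ne_one_of_acts hTa (by decide))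
  have hpar := fixSet_mod_two hT2
  obtain ⟨m, hm⟩ := hn
  omega

theorem card_R_even (H : Hyp G) (hn : Even (Fintype.card α)) (x : Fin 4 ↪ α) :
    Nat.card (R G x) = 1 := by
  have hall : ∀ z, z ∉ Set.range x → (orbit (R G x) z).ncard = 1 := by
    intro z hz
    by_contra h1
    obtain ⟨p, hp, hpd⟩ := Nat.exists_prime_and_dvd h1
    have := Fact.mk hp
    obtain ⟨P, hP⟩ := exists_sylowR G x p
    set π : Perm (Fin 4) := swap 1 2 with hπ
    set π' : Perm (Fin 4) := swap 1 3 with hπ'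
    set σT' := π * σT * π⁻¹ with hσT'
    obtain ⟨t, t', ht, ht', ht2, ht'2, htt, hta, hta'⟩ :=
      hP.exists_klein H σT_sq (show σT' * σT' = 1 by decide) (show σT * σT' = σT' * σT by decide)
    have hz' : ∀ ρ : Perm (Fin 4), z ∉ Set.range (ρ.toEmbedding.trans x) := fun ρ => by rwa [range_perm]
    obtain ⟨-, ⟨f, hf, hff⟩, huniq⟩ := double_even H hn ht.1 ht2 hta hz
    have D' := double_even H hn ht'.1 ht'2 (hta'.to_perm hσT') (hz' π)
    rw [R_perm] at D'
    obtain ⟨hz't, -, huniq'⟩ := D'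
    have htw : t' f = f := by
      refine huniq _ ?_ f hf ?_ hff
      · have := mem_orbit_of_acts ht'.1 hta' hf
        rwa [orbit_eq_iff.2 hz't] at this
      · rw [← Perm.mul_apply, htt, Perm.mul_apply, hff]
    have hw2 : t * t' * (t * t') = 1 := by
      calc t * t' * (t * t') = t * (t' * t) * t' := by group
        _ = (t * t) * (t' * t') := by rw [← htt]; group
        _ = 1 := by rw [ht2, ht'2, one_mul]
    have D'' := double_even H hn (G.mul_mem ht.1 ht'.1) hw2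
      ((hta.mul hta').to_perm (π := π') (σ := σT) (by decide)) (hz' π')
    rw [R_perm] at D''
    obtain ⟨-, -, huniq''⟩ := D''
    have hPR : ∀ w ∈ orbit P f, w ∈ orbit (R G x) z := by
      rintro w ⟨y, rfl⟩
      rw [← orbit_eq_iff.2 hf]
      exact ⟨⟨y, hP.le y.2⟩, rfl⟩
    have hodd : Odd (Nat.card P) := Odd.of_dvd_nat (H.odd x) (Subgroup.card_dvd_of_le hP.le)
    refine hP.not_dvd_orbit (f := f) (fun g hg => ?_) (by rwa [orbit_eq_iff.2 hf])
    have hgmem : g f ∈ orbit P f := ⟨⟨g, hg⟩, rfl⟩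
    obtain ⟨c, -, hc, hcf⟩ := klein_orbit hP.isPGroup hodd ht.2 ht'.2 ht2 ht'2 htt hff htw
      (fun w hw hw' => huniq w (hPR w hw) f hf hw' hff)
      (fun w hw hw' => huniq' w (hPR w hw) f hf hw' htw) _ hgmem
    refine huniq'' _ (hPR _ hgmem) f hf ?_ (by rw [Perm.mul_apply, htw, hff])
    rw [← hcf, ← Perm.mul_apply, ← hc.eq, Perm.mul_apply, Perm.mul_apply, htw, hff]
  have hbot : R G x = ⊥ := (Subgroup.eq_bot_iff_forall _).2 fun r hr => by
    ext z
    by_cases hz : z ∈ Set.range x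
    · obtain ⟨i, rfl⟩ := hz
      exact hr.2 i
    · obtain ⟨a, ha⟩ := Set.ncard_eq_one.1 (hall z hz)
      have h1 : r z ∈ orbit (R G x) z := ⟨⟨r, hr⟩, rfl⟩
      have h2 := mem_orbit_self (M := R G x) z
      rw [ha] at h1 h2
      exact (Set.mem_singleton_iff.1 h1).trans (Set.mem_singleton_iff.1 h2).symm
  rw [hbot, Subgroup.card_bot]

end CfsgLib.FourTransitive
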