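import Mathlib
import Cfsg.Agent.FourTransitive.Even

/-!
# Odd degree: the four-point stabiliser is trivial unless the degree is seven
-/

namespace CfsgLib.FourTransitive

open Equiv MulAction

variable {α : Type*} {G : Subgroup (Perm α)}

theorem Acts.conj {x y : Fin 4 ↪ α} {g u : Perm α} {σ : Perm (Fin 4)} (hgy : ∀ i, g (x i) = y i)
    (hu : Acts y u σ) : Acts x (g⁻¹ * u * g) σ := fun i => by
  rw [Perm.mul_apply, Perm.mul_apply, hgy, hu, ← hgy, ← Perm.mul_apply, inv_mul_cancel]
  rfl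

theorem conj_sq_eq_one {g u : Perm α} (hu2 : u * u = 1) :
    g⁻¹ * u * g * (g⁻¹ * u * g) = 1 := by
  rw [show g⁻¹ * u * g * (g⁻¹ * u * g) = g⁻¹ * (u * u) * g by group, hu2]; group

variable [Fintype α] [DecidableEq α]

theorem card_fixSet_conj (g u : Perm α) : (fixSet (g * u * g⁻¹)).card = (fixSet u).card := by
  rw [← Finset.card_map g.toEmbedding (s := fixSet u)]
  congr 1
  ext z
  simp only [Finset.mem_map, mem_fixSet, Equiv.coe_toEmbedding, Perm.mul_apply]
  constructor
  · intro h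
    refine ⟨g⁻¹ z, ?_, by simp⟩
    apply g.injective
    rw [h]; simp
  · rintro ⟨a, ha, rfl⟩
    simp [ha]

/-- the third fixed point -/
def Third (x : Fin 4 ↪ α) (u : Perm α) (e : α) : Prop :=
  e ∉ Set.range x ∧ u e = e ∧ ∀ z, u z = z → z = x 0 ∨ z = x 1 ∨ z = e

theorem exists_third (H : Hyp G) (hn : Odd (Fintype.card α)) {x : Fin 4 ↪ α} {u : Perm α}
    (hu : u ∈ G) (hu2 : u * u = 1) (hua : Acts x u σA) : ∃ e, Third x u e := by
  have h0 : u (x 0) = x 0 := hua 0
  have h1 : u (x 1) = x 1 := hua 1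
  have hle := H.card_fixSet_le hu hu2 (ne_one_of_acts hua (by decide))
  have h01 : x 0 ≠ x 1 := fun h => absurd (x.injective h) (by decide)
  have hsub : ({x 0, x 1} : Finset α) ⊆ fixSet u := by
    intro w hw
    simp only [Finset.mem_insert, Finset.mem_singleton] at hw
    rw [mem_fixSet]
    rcases hw with rfl | rfl <;> assumption
  have h2 := Finset.card_le_card hsub
  rw [Finset.card_pair h01] at h2
  have hpar := fixSet_mod_two hu2
  obtain ⟨m, hm⟩ := hn
  have h3 : (fixSet u \ {x 0, x 1}).card = 1 := by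
    rw [Finset.card_sdiff_of_subset hsub, Finset.card_pair h01]; omega
  obtain ⟨e, he⟩ := Finset.card_eq_one.1 h3
  have hmem : e ∈ fixSet u \ {x 0, x 1} := he ▸ Finset.mem_singleton_self e
  simp only [Finset.mem_sdiff, mem_fixSet, Finset.mem_insert, Finset.mem_singleton, not_or] at hmem
  refine ⟨e, ?_, hmem.1, fun z hz => ?_⟩
  · rintro ⟨i, rfl⟩
    have h4 : σA i = i := x.injective ((hua i).symm.trans hmem.1)
    have : ∀ i : Fin 4, σA i = i → i = 0 ∨ i = 1 := by decide
    rcases this i h4 with rfl | rfl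
    exacts [hmem.2.1 rfl, hmem.2.2 rfl]
  · by_contra! hne
    have : z ∈ fixSet u \ {x 0, x 1} := by
      simp [mem_fixSet, hz, hne.1, hne.2.1]
    rw [he, Finset.mem_singleton] at this
    exact hne.2.2 this

theorem Third.eq_of_notMem {x : Fin 4 ↪ α} {u : Perm α} {e z : α} (h : Third x u e) (hz : u z = z)
    (hzx : z ∉ Set.range x) : z = e := by
  rcases h.2.2 z hz with h' | h' | h'
  · exact absurd ⟨0, h'.symm⟩ hzx
  · exact absurd ⟨1, h'.symm⟩ hzx
  · exact h'

theorem Third.moved {x : Fin 4 ↪ α} {u : Perm α} {e z : α} (h : Third x u e) (hzx : z ∉ Set.range x)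
    (hze : z ≠ e) : u z ≠ z := fun hz => hze (h.eq_of_notMem hz hzx)

/-- An element of odd order fixing all but two points of a small invariant set fixes them all. -/
theorem fix_pair {g : Perm α} {m : ℕ} (hm : Odd m) (hg : g ^ m = 1) {a b : α}
    (ha : g a = a ∨ g a = b) (hb : g b = a ∨ g b = b) : g a = a := by
  rcases ha with h | h
  · exact h
  rcases hb with h' | h'
  · obtain ⟨k, rfl⟩ := hm
    have h2 : (g * g) a = a := by rw [Perm.mul_apply, h, h']
    have h3 : ((g * g) ^ (k + 1)) a = a := Perm.pow_apply_eq_self_of_apply_eq_self h2 _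
    rwa [← pow_two, ← pow_mul, show 2 * (k + 1) = 2 * k + 1 + 1 by ring, pow_succ, hg, one_mul] at h3
  · rw [show a = b from g.injective (h.trans h'.symm)]; exact h'

/-- elements commuting with an involution permute its three fixed points -/
theorem mem_three_of_commute {g u : Perm α} (hgu : Commute g u) {a b c : α}
    (hfix : ∀ z, u z = z ↔ z = a ∨ z = b ∨ z = c) {z : α} (hz : z = a ∨ z = b ∨ z = c) :
    g z = a ∨ g z = b ∨ g z = c := by
  rw [← hfix] at hz ⊢
  rw [← Perm.mul_apply, ← hgu.eq, Perm.mul_apply, hz]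

theorem Third.iff {x : Fin 4 ↪ α} {u : Perm α} {e : α} (h : Third x u e) (hua : Acts x u σA) (z : α) :
    u z = z ↔ z = x 0 ∨ z = x 1 ∨ z = e := by
  refine ⟨h.2.2 z, ?_⟩
  rintro (rfl | rfl | rfl)
  exacts [hua 0, hua 1, h.2.1]

theorem Third.card {x : Fin 4 ↪ α} {u : Perm α} {e : α} (h : Third x u e) (hua : Acts x u σA) :
    (fixSet u).card = 3 := by
  rw [Finset.card_eq_three]
  refine ⟨x 0, x 1, e, fun h' => absurd (x.injective h') (by decide),
    fun h' => h.1 ⟨0, h'⟩, fun h' => h.1 ⟨1, h'⟩, ?_⟩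
  ext z
  simp [mem_fixSet, h.iff hua]

/-- every third fixed point is fixed by the stabiliser -/
def PropA (G : Subgroup (Perm α)) (x : Fin 4 ↪ α) : Prop :=
  ∀ u ∈ G, u * u = 1 → Acts x u σA → ∀ e, Third x u e → ∀ r ∈ R G x, r e = e

/-- every double transposition is centralised by the stabiliser -/
def CentT (G : Subgroup (Perm α)) (x : Fin 4 ↪ α) : Prop :=
  ∀ T ∈ G, T * T = 1 → Acts x T σT → ∀ r ∈ R G x, Commute r T

theorem conj_mem_R {x y : Fin 4 ↪ α} {g : Perm α} (hg : g ∈ G) (hgy : ∀ i, g (x i) = y i) {r : Perm α}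
    (hr : r ∈ R G y) : g⁻¹ * r * g ∈ R G x := by
  refine mem_R_of_acts_one (G.mul_mem (G.mul_mem (G.inv_mem hg) hr.1) hg) ?_
  exact Acts.conj hgy hr.2

theorem PropA.transport (H : Hyp G) {x : Fin 4 ↪ α} (hA : PropA G x) (y : Fin 4 ↪ α) : PropA G y := by
  obtain ⟨g, hg, hgy⟩ := H.exists_map x y
  intro u hu hu2 hua e he r hr
  have hfix : ∀ z, (g⁻¹ * u * g) z = z ↔ u (g z) = g z := fun z => by
    rw [Perm.mul_apply, Perm.mul_apply, Perm.inv_eq_iff_eq, eq_comm]
  have hinv : ∀ w, g (g⁻¹ w) = w := fun w => by simp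
  have hinvy : ∀ i, g⁻¹ (y i) = x i := fun i => by rw [Perm.inv_eq_iff_eq, hgy]
  have he' : Third x (g⁻¹ * u * g) (g⁻¹ e) := by
    refine ⟨?_, (hfix _).2 (by rw [hinv]; exact he.2.1), fun z hz => ?_⟩
    · rintro ⟨i, hi⟩
      exact he.1 ⟨i, by rw [← hgy, hi, hinv]⟩
    · rcases he.2.2 _ ((hfix z).1 hz) with h | h | h
      · left; rw [← hinvy, ← h]; simp
      · right; left; rw [← hinvy, ← h]; simp
      · right; right; rw [← h]; simp
  have := hA _ (G.mul_mem (G.mul_mem (G.inv_mem hg) hu) hg) (conj_sq_eq_one hu2) (Acts.conj hgy hua) _ he'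
    _ (conj_mem_R hg hgy hr)
  simpa [Perm.mul_apply] using this

theorem CentT.transport (H : Hyp G) {x : Fin 4 ↪ α} (hC : CentT G x) (y : Fin 4 ↪ α) : CentT G y := by
  obtain ⟨g, hg, hgy⟩ := H.exists_map x y
  intro T hT hT2 hTa r hr
  have h := hC _ (G.mul_mem (G.mul_mem (G.inv_mem hg) hT) hg) (conj_sq_eq_one hT2) (Acts.conj hgy hTa)
    _ (conj_mem_R hg hgy hr)
  have h1 : g⁻¹ * (r * T) * g = g⁻¹ * (T * r) * g := by
    calc g⁻¹ * (r * T) * g = g⁻¹ * r * g * (g⁻¹ * T * g) := by group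
      _ = g⁻¹ * T * g * (g⁻¹ * r * g) := h.eq
      _ = g⁻¹ * (T * r) * g := by group
  exact mul_left_cancel (mul_right_cancel h1)

/-- The quadruple made of two pairs of an involution with three fixed points. -/
theorem exists_pair_emb {x : Fin 4 ↪ α} {u : Perm α} {e : α} (hu2 : u * u = 1) (hua : Acts x u σA)
    (he : Third x u e) {z : α} (hz : z ∉ Set.range x) (hze : z ≠ e) :
    ∃ y : Fin 4 ↪ α, y 0 = x 2 ∧ y 1 = x 3 ∧ y 2 = z ∧ y 3 = u z ∧ Acts y u σT := by
  have huu : ∀ w, u (u w) = w := fun w => by rw [← Perm.mul_apply, hu2]; rfl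
  have huz := apply_not_mem_range hua hz
  refine ⟨emb4 (x 2) (x 3) z (u z) (fun h => absurd (x.injective h) (by decide)) (fun h => hz ⟨2, h⟩)
    (fun h => huz ⟨2, h⟩) (fun h => hz ⟨3, h⟩) (fun h => huz ⟨3, h⟩) (he.moved hz hze).symm,
    rfl, rfl, rfl, rfl, ?_⟩
  intro i
  fin_cases i
  exacts [hua 2, hua 3, rfl, huu z]

/-- All double transpositions fix three points. -/
theorem card_fixSet_double (H : Hyp G) (hn : Odd (Fintype.card α)) (h7 : 7 ≤ Fintype.card α)
    {x : Fin 4 ↪ α} {T : Perm α} (hT : T ∈ G) (hT2 : T * T = 1) (hTa : Acts x T σT) :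
    (fixSet T).card = 3 := by
  obtain ⟨u, hu, hu2, hua⟩ := exists_lift_invol H x σA_sq
  obtain ⟨e, he⟩ := exists_third H hn hu hu2 hua
  obtain ⟨z, -, hz⟩ := Finset.exists_mem_notMem_of_card_lt_card
    (show (insert e (Finset.univ.map x)).card < (Finset.univ : Finset α).card by
      have := Finset.card_insert_le e (Finset.univ.map x)
      rw [Finset.card_map, Finset.card_univ, Fintype.card_fin] at this
      rw [Finset.card_univ]
      omega)
  simp only [Finset.mem_insert, Finset.mem_map, Finset.mem_univ, true_and, not_or] at hz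
  obtain ⟨y, -, -, -, -, hy⟩ := exists_pair_emb hu2 hua he (fun ⟨i, hi⟩ => hz.2 ⟨i, hi⟩) hz.1
  obtain ⟨g, hg, hgy⟩ := H.exists_map x y
  obtain ⟨r, -, -, hr⟩ := H.exists_conj (G.mul_mem (G.mul_mem (G.inv_mem hg) hu) hg) hT
    (conj_sq_eq_one hu2) hT2 (Acts.conj hgy hy) hTa
  rw [← hr, card_fixSet_conj,
    show g⁻¹ * u * g = g⁻¹ * u * g⁻¹⁻¹ by rw [inv_inv], card_fixSet_conj, he.card hua]

/-- The centraliser count. -/
theorem degree_seven (H : Hyp G) (hn : Odd (Fintype.card α)) (h7 : 7 ≤ Fintype.card α)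
    {x : Fin 4 ↪ α} {u : Perm α} {e : α} (hu : u ∈ G) (hu2 : u * u = 1) (hua : Acts x u σA)
    (he : Third x u e) (hfree : ∀ r ∈ R G x, Commute r u → r = 1)
    (hcent : ∀ y, CentT G y) (hR : Nat.card (R G x) ≠ 1) :
    Fintype.card α = 7 ∧ Nat.card (R G x) = 3 := by
  classical
  let M : Subgroup (Perm α) :=
    { carrier := {g | g ∈ G ∧ Commute g u ∧ g (x 2) = x 2}
      one_mem' := ⟨G.one_mem, Commute.one_left u, rfl⟩
      mul_mem' := fun {a b} ha hb => ⟨G.mul_mem ha.1 hb.1, ha.2.1.mul_left hb.2.1, by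
        rw [Perm.mul_apply, hb.2.2, ha.2.2]⟩
      inv_mem' := fun {a} ha => ⟨G.inv_mem ha.1, ha.2.1.inv_left, by
        rw [Perm.inv_eq_iff_eq, ha.2.2]⟩ }
  have h23 : u (x 2) = x 3 := hua 2
  have hM3 : ∀ g ∈ M, g (x 3) = x 3 := fun g hg => by
    rw [← h23, ← Perm.mul_apply, hg.2.1.eq, Perm.mul_apply, hg.2.2]
  have hM6 : Nat.card M ≤ 6 := by
    have hpres : ∀ (g : M) (z : α), (g : Perm α) z ∈ fixSet u ↔ z ∈ fixSet u := by
      intro g z
      rw [mem_fixSet, mem_fixSet, ← Perm.mul_apply, ← g.2.2.1.eq, Perm.mul_apply]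
      exact (g : Perm α).injective.eq_iff
    let f : M → Perm {z // z ∈ fixSet u} := fun g => (g : Perm α).subtypePerm (hpres g)
    have hinj : Function.Injective f := by
      intro g g' h
      have hz : ∀ z, u z = z → (g : Perm α) z = (g' : Perm α) z := fun z hz =>
        congrArg Subtype.val (Equiv.ext_iff.1 h ⟨z, mem_fixSet.2 hz⟩)
      have hmem : (g' : Perm α)⁻¹ * g ∈ R G x := by
        refine mem_R_of_acts_one (G.mul_mem (G.inv_mem g'.2.1) g.2.1) fun i => ?_
        change (g' : Perm α)⁻¹ ((g : Perm α) (x i)) = x i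
        rw [Perm.inv_eq_iff_eq]
        fin_cases i
        · exact hz _ (hua 0)
        · exact hz _ (hua 1)
        · exact g.2.2.2.trans g'.2.2.2.symm
        · exact (hM3 _ g.2).trans (hM3 _ g'.2).symm
      have := hfree _ hmem (g'.2.2.1.inv_left.mul_left g.2.2.1)
      exact Subtype.ext (inv_mul_eq_one.1 this).symm
    refine (Nat.card_le_card_of_injective f hinj).trans (le_of_eq ?_)
    rw [Nat.card_perm, Nat.card_eq_fintype_card, Fintype.card_coe, he.card hua]
    rfl
  set out := Finset.univ \ insert e (Finset.univ.map x) with hout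
  have hmemout : ∀ z, z ∈ out ↔ z ∉ Set.range x ∧ z ≠ e := fun z => by
    simp [hout, and_comm, eq_comm]
  have hcard_out : out.card = Fintype.card α - 5 := by
    rw [hout, Finset.card_sdiff_of_subset (Finset.subset_univ _), Finset.card_univ,
      Finset.card_insert_of_notMem (by simpa [eq_comm] using he.1), Finset.card_map, Finset.card_univ,
      Fintype.card_fin]
  obtain ⟨z, hz⟩ := Finset.card_pos.1 (show 0 < out.card by omega)
  rw [hmemout] at hz
  obtain ⟨y, hy0, hy1, hy2, hy3, hy⟩ := exists_pair_emb hu2 hua he hz.1 hz.2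
  have hRM : ∀ r ∈ R G y, r ∈ M := fun r hr => ⟨hr.1, hcent y u hu hu2 hy r hr, hy0 ▸ hr.2 0⟩
  have horb : (out : Set α) ⊆ orbit M z := by
    intro w hw
    rw [Finset.mem_coe, hmemout] at hw
    obtain ⟨g, hg, hgu, hg2, hgz⟩ := H.exists_commute_map hu hu2 (c := x 2)
      (by rw [h23]; exact fun h => absurd (x.injective h) (by decide))
      (he.moved hz.1 hz.2) (fun h => hz.1 ⟨2, h.symm⟩) (fun h => hz.1 ⟨3, (h.trans h23).symm⟩)
      (he.moved hw.1 hw.2) (fun h => hw.1 ⟨2, h.symm⟩) (fun h => hw.1 ⟨3, (h.trans h23).symm⟩)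
    exact ⟨⟨g, hg, hgu, hg2⟩, hgz⟩
  have h1 : out.card ≤ (orbit M z).ncard := by
    rw [← Set.ncard_coe_finset]
    exact Set.ncard_le_ncard horb (Set.toFinite _)
  have h2 : Nat.card (R G x) ≤ Nat.card (stabilizer M z) := by
    rw [H.card_R_eq x y]
    refine Nat.card_le_card_of_injective (fun r => ⟨⟨r, hRM r r.2⟩, ?_⟩) ?_
    · change (r : Perm α) z = z
      rw [← hy2]; exact r.2.2 2
    · intro r r' h
      exact Subtype.ext (congrArg (fun s : stabilizer M z => ((s : M) : Perm α)) h :)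
  have h3 : (orbit M z).ncard * Nat.card (stabilizer M z) = Nat.card M := by
    rw [← index_stabilizer, mul_comm, Subgroup.card_mul_index]
  have h4 : 3 ≤ Nat.card (R G x) := by
    obtain ⟨k, hk⟩ := H.odd x
    omega
  have h5 : (Fintype.card α - 5) * Nat.card (R G x) ≤ 6 :=
    hcard_out ▸ (Nat.mul_le_mul h1 h2).trans (h3.le.trans hM6)
  obtain ⟨k, hk⟩ := hn
  obtain ⟨l, hl⟩ := H.odd x
  constructor <;> nlinarith [Nat.sub_add_cancel (show 5 ≤ Fintype.card α by omega)]

/-- The lifts of the two transpositions and the common third point. -/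
theorem exists_setup (H : Hyp G) (hn : Odd (Fintype.card α)) {x : Fin 4 ↪ α} {p : ℕ} [Fact p.Prime]
    {P : Subgroup (Perm α)} (hP : SylowR G x p P) :
    ∃ u v e, u ∈ G ∧ v ∈ G ∧ u * u = 1 ∧ v * v = 1 ∧ u * v = v * u ∧ Acts x u σA ∧ Acts x v σB ∧
      Third x u e ∧ v e = e ∧ (∀ w ∈ orbit P e, ∃ c ∈ P, Commute c (u * v) ∧ c e = w) := by
  obtain ⟨u, v, hu, hv, hu2, hv2, huv, hua, hva⟩ := hP.exists_klein H σA_sq σB_sq σA_comm_σB
  obtain ⟨e, he⟩ := exists_third H hn hu.1 hu2 hua
  set π : Perm (Fin 4) := swap 0 2 * swap 1 3 with hπ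
  have hva' : Acts (π.toEmbedding.trans x) v σA := hva.to_perm (by decide)
  obtain ⟨e', he'⟩ := exists_third H hn hv.1 hv2 hva'
  have hve : v e = e := by
    refine he.eq_of_notMem ?_ (apply_not_mem_range hva he.1)
    rw [← Perm.mul_apply, huv, Perm.mul_apply, he.2.1]
  have hee : e = e' := he'.eq_of_notMem hve (by rw [range_perm]; exact he.1)
  subst hee
  have hout : ∀ w ∈ orbit P e, w ∉ Set.range x := by
    rintro w ⟨y, rfl⟩
    exact notMem_range_of_mem_orbit he.1 ⟨⟨y, hP.le y.2⟩, rfl⟩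
  exact ⟨u, v, e, hu.1, hv.1, hu2, hv2, huv, hua, hva, he, hve,
    klein_orbit hP.isPGroup (Odd.of_dvd_nat (H.odd x) (Subgroup.card_dvd_of_le hP.le)) hu.2 hv.2
      hu2 hv2 huv he.2.1 hve (fun w hw hw' => he.eq_of_notMem hw' (hout w hw))
      (fun w hw hw' => he'.eq_of_notMem hw' (by rw [range_perm]; exact hout w hw))⟩

theorem mul_self_of_comm {u v : Perm α} (hu2 : u * u = 1) (hv2 : v * v = 1) (huv : u * v = v * u) :
    u * v * (u * v) = 1 := by
  calc u * v * (u * v) = u * (v * u) * v := by group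
    _ = (u * u) * (v * v) := by rw [← huv]; group
    _ = 1 := by rw [hu2, hv2, one_mul]

theorem acts_uv {x : Fin 4 ↪ α} {u v : Perm α} (hua : Acts x u σA) (hva : Acts x v σB) :
    Acts x (u * v) σT := by
  have := hua.mul hva
  rwa [σA_comm_σB] at this

/-- The orbit of the third point has one or three points. -/
theorem orbit_third (H : Hyp G) (hn : Odd (Fintype.card α)) (h7 : 7 ≤ Fintype.card α) {x : Fin 4 ↪ α}
    {u : Perm α} {e : α} (hu : u ∈ G) (hu2 : u * u = 1) (hua : Acts x u σA) (he : Third x u e) :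
    (orbit (R G x) e).ncard ∣ 3 := by
  have key : ∀ v e', v ∈ G → v * v = 1 → Acts x v σA → Third x v e' →
      orbit (R G x) e' = orbit (R G x) e := by
    intro v e' hv hv2 hva he'
    obtain ⟨r, hr, -, hrv⟩ := H.exists_conj hu hv hu2 hv2 hua hva
    have h1 : r e = e' := by
      refine he'.eq_of_notMem ?_ (notMem_range_of_mem_orbit he.1 ⟨⟨r, hr⟩, rfl⟩)
      rw [← hrv]
      simp [Perm.mul_apply, he.2.1]
    rw [← h1]
    exact orbit_eq_iff.2 ⟨⟨r, hr⟩, rfl⟩
  set o := (orbit (R G x) e).ncard with ho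
  have hR : o ∣ Nat.card (R G x) := by
    rw [ho, ← index_stabilizer]; exact Subgroup.index_dvd_card _
  have ho0 : o ≠ 0 := fun h => by rw [h, zero_dvd_iff] at hR; exact Nat.card_pos.ne' hR
  refine (Nat.dvd_iff_prime_pow_dvd_dvd 3 o).2 fun p k hp hk => ?_
  rcases Nat.eq_zero_or_pos k with rfl | hk0
  · simp
  have := Fact.mk hp
  obtain ⟨P, hP⟩ := exists_sylowR G x p
  obtain ⟨u', v', e', hu', hv', hu'2, hv'2, hcomm, hu'a, hv'a, he', hve', hcl⟩ := exists_setup H hn hP
  have hTa := acts_uv hu'a hv'a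
  have hcard := card_fixSet_double H hn h7 (G.mul_mem hu' hv') (mul_self_of_comm hu'2 hv'2 hcomm) hTa
  have hsub : orbit P e' ⊆ (fixSet (u' * v') : Set α) := by
    intro w hw
    obtain ⟨c, -, hc, rfl⟩ := hcl w hw
    rw [Finset.mem_coe, mem_fixSet, ← Perm.mul_apply, ← hc.eq, Perm.mul_apply,
      show (u' * v') e' = e' by rw [Perm.mul_apply, hve', he'.2.1]]
  have hle : (orbit P e').ncard ≤ 3 := by
    rw [← hcard, ← Set.ncard_coe_finset]
    exact Set.ncard_le_ncard hsub (Set.toFinite _)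
  obtain ⟨j, hj⟩ := hP.isPGroup.card_orbit e'
  rw [Nat.card_coe_set_eq] at hj
  have hpo : p ∣ o := (dvd_pow_self p hk0.ne').trans hk
  have hj0 : j ≠ 0 := by
    rintro rfl
    refine hP.not_dvd_orbit (f := e') (fun g hg => ?_) (by rw [key u' e' hu' hu'2 hu'a he']; exact hpo)
    obtain ⟨a, ha⟩ := Set.ncard_eq_one.1 (hj.trans (pow_zero p))
    have h1 : g e' ∈ orbit P e' := ⟨⟨g, hg⟩, rfl⟩
    have h2 := mem_orbit_self (M := P) e'
    rw [ha] at h1 h2
    exact (Set.mem_singleton_iff.1 h1).trans (Set.mem_singleton_iff.1 h2).symm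
  have hpodd : p ≠ 2 := by
    rintro rfl
    exact Nat.not_even_iff_odd.2 (H.odd x) (even_iff_two_dvd.2 (hpo.trans hR))
  have hp3 : p = 3 ∧ j = 1 := by
    rw [hj] at hle
    have hp3 : 3 ≤ p := by have := hp.two_le; omega
    have h1 : p ≤ p ^ j := Nat.le_self_pow hj0 p
    have hpe : p = 3 := by omega
    subst hpe
    refine ⟨rfl, ?_⟩
    by_contra hj1
    have := Nat.pow_le_pow_right (show 3 > 0 by norm_num) (show 2 ≤ j by omega)
    norm_num at this
    omega
  obtain ⟨rfl, rfl⟩ := hp3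
  -- the Sylow subgroup loses only one factor three
  obtain ⟨Ps, hPs⟩ := hP
  set St := stabilizer (R G x) e'
  have hindex : St.index = o := by rw [index_stabilizer, key u' e' hu' hu'2 hu'a he']
  have h1 : Nat.card (stabilizer P e') ∣ Nat.card St := by
    have hle' : P ≤ R G x := hPs ▸ Subgroup.map_subtype_le _
    refine Subgroup.card_dvd_of_injective
      (f := ((Subgroup.inclusion hle').comp (stabilizer P e').subtype).codRestrict St fun g => g.2) ?_
    intro a b hab
    exact Subtype.ext (Subgroup.inclusion_injective hle' (congrArg Subtype.val hab :))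
  have h2 : Nat.card (stabilizer P e') * 3 = Nat.card (Ps : Subgroup (R G x)) := by
    rw [← show Nat.card P = Nat.card (Ps : Subgroup (R G x)) by
        rw [hPs, Subgroup.card_map_of_injective (R G x).subtype_injective],
      ← Subgroup.card_mul_index (stabilizer P e'), index_stabilizer, hj, pow_one]
  by_contra hk3
  have hk2 : 2 ≤ k := by
    by_contra hlt
    exact hk3 (by rw [show k = 1 by omega, pow_one])
  have h9 : 3 ^ 2 * Nat.card (stabilizer P e') ∣ Nat.card (R G x) := by
    rw [← Subgroup.card_mul_index St, hindex, mul_comm (Nat.card St)]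
    exact Nat.mul_dvd_mul ((pow_dvd_pow 3 hk2).trans hk) h1
  apply Ps.not_dvd_index
  rw [← Subgroup.card_mul_index (Ps : Subgroup (R G x)), ← h2,
    show 3 ^ 2 * Nat.card (stabilizer P e') = Nat.card (stabilizer P e') * 3 * 3 by ring] at h9
  exact Nat.dvd_of_mul_dvd_mul_left (Nat.mul_pos Nat.card_pos three_pos) h9

/-- If the orbit of the third point has three points, the stabiliser has order three. -/
theorem case_three (H : Hyp G) (hn : Odd (Fintype.card α)) (h7 : 7 ≤ Fintype.card α)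
    {x : Fin 4 ↪ α} (hA : ¬ PropA G x) : Fintype.card α = 7 ∧ Nat.card (R G x) = 3 := by
  classical
  have hp : Fact (Nat.Prime 3) := ⟨Nat.prime_three⟩
  -- the structure at every quadruple
  have main : ∀ y : Fin 4 ↪ α, ∃ O : Set α, O.ncard = 3 ∧
      (∀ u e, u ∈ G → u * u = 1 → Acts y u σA → Third y u e → orbit (R G y) e = O) ∧
      (∀ T ∈ G, T * T = 1 → Acts y T σT → (fixSet T : Set α) = O) ∧
      (∀ w ∈ O, orbit (R G y) w = O) ∧
      ∃ u v e c, u ∈ G ∧ v ∈ G ∧ u * u = 1 ∧ v * v = 1 ∧ u * v = v * u ∧ Acts y u σA ∧ Acts y v σB ∧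
        Third y u e ∧ c ∈ R G y ∧ Commute c (u * v) ∧ c e ≠ e := by
    intro y
    have hAy : ¬ PropA G y := fun h => hA (h.transport H x)
    unfold PropA at hAy
    push Not at hAy
    obtain ⟨u₀, hu₀, hu₀2, hu₀a, e₀, he₀, r₀, hr₀, hr₀e⟩ := hAy
    have ho : (orbit (R G y) e₀).ncard = 3 := by
      rcases (Nat.dvd_prime Nat.prime_three).1 (orbit_third H hn h7 hu₀ hu₀2 hu₀a he₀) with h | h
      · exfalso
        obtain ⟨a, ha⟩ := Set.ncard_eq_one.1 h
        have h1 : r₀ e₀ ∈ orbit (R G y) e₀ := ⟨⟨r₀, hr₀⟩, rfl⟩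
        have h2 := mem_orbit_self (M := R G y) e₀
        rw [ha] at h1 h2
        exact hr₀e ((Set.mem_singleton_iff.1 h1).trans (Set.mem_singleton_iff.1 h2).symm)
      · exact h
    have key : ∀ v e', v ∈ G → v * v = 1 → Acts y v σA → Third y v e' →
        orbit (R G y) e' = orbit (R G y) e₀ := by
      intro v e' hv hv2 hva he'
      obtain ⟨r, hr, -, hrv⟩ := H.exists_conj hu₀ hv hu₀2 hv2 hu₀a hva
      have h1 : r e₀ = e' := by
        refine he'.eq_of_notMem ?_ (notMem_range_of_mem_orbit he₀.1 ⟨⟨r, hr⟩, rfl⟩)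
        rw [← hrv]
        simp [Perm.mul_apply, he₀.2.1]
      rw [← h1]
      exact orbit_eq_iff.2 ⟨⟨r, hr⟩, rfl⟩
    obtain ⟨P, hP⟩ := exists_sylowR G y 3
    obtain ⟨u, v, e, hu, hv, hu2, hv2, huv, hua, hva, he, hve, hcl⟩ := exists_setup H hn hP
    have horb := key u e hu hu2 hua he
    obtain ⟨c, hcP, hce⟩ : ∃ c ∈ P, c e ≠ e := by
      by_contra! hfix
      exact hP.not_dvd_orbit hfix (by rw [horb, ho])
    obtain ⟨c', hc'P, hc', hc'e⟩ := hcl (c e) ⟨⟨c, hcP⟩, rfl⟩
    have hTa := acts_uv hua hva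
    have hT2 := mul_self_of_comm hu2 hv2 huv
    have hcard := card_fixSet_double H hn h7 (G.mul_mem hu hv) hT2 hTa
    have hOfix : orbit (R G y) e = (fixSet (u * v) : Set α) := by
      -- the powers of `c'` fill both sides
      have hce' : c' e ≠ e := by rw [hc'e]; exact hce
      have hmem : ∀ m : ℕ, (c' ^ m) e ∈ (fixSet (u * v) : Set α) := fun m => by
        rw [Finset.mem_coe, mem_fixSet, ← Perm.mul_apply, ← (hc'.pow_left m).eq, Perm.mul_apply,
          show (u * v) e = e by rw [Perm.mul_apply, hve, he.2.1]]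
      have hmem' : ∀ m : ℕ, (c' ^ m) e ∈ orbit (R G y) e := fun m =>
        ⟨⟨c' ^ m, Subgroup.pow_mem _ (hP.le hc'P) m⟩, rfl⟩
      have hm := H.pow_card_R (hP.le hc'P)
      have hne2 : c' (c' e) ≠ e := fun h => hce'
        (fix_pair (H.odd y) hm (a := e) (b := c' e) (Or.inr rfl) (Or.inl h))
      have hne3 : c' (c' e) ≠ c' e := fun h => hce' (c'.injective h)
      have h3 : ({e, c' e, c' (c' e)} : Set α).ncard = 3 := by
        rw [Set.ncard_eq_three]
        exact ⟨_, _, _, hce'.symm, hne2.symm, hne3.symm, rfl⟩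
      have e1 : ({e, c' e, c' (c' e)} : Set α) = orbit (R G y) e := by
        refine Set.eq_of_subset_of_ncard_le ?_ (by rw [h3, horb, ho]) (Set.toFinite _)
        rintro w (rfl | rfl | rfl)
        exacts [hmem' 0, by simpa using hmem' 1, by simpa [pow_two, Perm.mul_apply] using hmem' 2]
      rw [← e1]
      refine Set.eq_of_subset_of_ncard_le ?_ (by rw [h3, Set.ncard_coe_finset, hcard]) (Set.toFinite _)
      rintro w (rfl | rfl | rfl)
      exacts [hmem 0, by simpa using hmem 1, by simpa [pow_two, Perm.mul_apply] using hmem 2]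
    refine ⟨orbit (R G y) e₀, ho, key, fun T hT hT' hTa' => ?_, fun w hw => orbit_eq_iff.2 hw,
      u, v, e, c', hu, hv, hu2, hv2, huv, hua, hva, he, hP.le hc'P, hc', by rw [hc'e]; exact hce⟩
    obtain ⟨r, hr, -, hrT⟩ := H.exists_conj (G.mul_mem hu hv) hT hT2 hT' hTa hTa'
    rw [← horb]
    ext w
    rw [Finset.mem_coe, mem_fixSet, ← hrT]
    have h1 : (r * (u * v) * r⁻¹) w = w ↔ (u * v) (r⁻¹ w) = r⁻¹ w := by
      rw [Perm.mul_apply, Perm.mul_apply]
      exact ⟨fun h => by rw [eq_comm, Perm.inv_eq_iff_eq]; exact h.symm, fun h => by rw [h]; simp⟩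
    rw [h1, ← mem_fixSet, ← Finset.mem_coe, ← hOfix]
    constructor
    · rintro ⟨q, hq⟩
      refine ⟨⟨r, hr⟩ * q, ?_⟩
      change r ((q : Perm α) e) = w
      rw [show (q : Perm α) e = r⁻¹ w from hq]; simp
    · rintro ⟨q, rfl⟩
      exact ⟨⟨r, hr⟩⁻¹ * q, rfl⟩
  obtain ⟨O, hO, hkey, hfixT, horbO, u, v, e, c, hu, hv, hu2, hv2, huv, hua, hva, he, hcR, hcT, hce⟩ := main x
  have heO : e ∈ O := hkey u e hu hu2 hua he ▸ mem_orbit_self e
  -- the stabiliser of a further point of the orbit is trivial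
  have hstab : ∀ r ∈ R G x, r e = e → r = 1 := by
    have hall : ∀ z, z ∉ Set.range x → z ≠ e → ∀ r ∈ R G x, r e = e → r z = z := by
      intro z hz hze
      obtain ⟨y, hy0, hy1, hy2, hy3, hy⟩ := exists_pair_emb hu2 hua he hz hze
      obtain ⟨O', hO', -, hfixT', horbO', -⟩ := main y
      have hO'eq := hfixT' u hu hu2 hy
      have hx0 : x 0 ∈ O' := by rw [← hO'eq, Finset.mem_coe, mem_fixSet]; exact hua 0
      set A := stabilizer (R G y) (x 0)
      set B := stabilizer (R G x) e
      have hcA : Nat.card A * 3 = Nat.card (R G y) := by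
        rw [← Subgroup.card_mul_index A, index_stabilizer, horbO' _ hx0, hO']
      have hcB : Nat.card B * 3 = Nat.card (R G x) := by
        rw [← Subgroup.card_mul_index B, index_stabilizer, horbO _ heO, hO]
      have hA_fix : ∀ a : A, ((a : R G y) : Perm α) (x 1) = x 1 ∧ ((a : R G y) : Perm α) e = e := by
        intro a
        have hmap : ∀ w, w ∈ O' → ((a : R G y) : Perm α) w ∈ O' := fun w hw => by
          rw [← horbO' w hw]; exact ⟨(a : R G y), rfl⟩
        have hmem : ∀ w, w ∈ O' ↔ w = x 0 ∨ w = x 1 ∨ w = e := fun w => by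
          rw [← hO'eq, Finset.mem_coe, mem_fixSet, he.iff hua]
        have h0 : ((a : R G y) : Perm α) (x 0) = x 0 := a.2
        have hne : ∀ w, w ≠ x 0 → ((a : R G y) : Perm α) w ≠ x 0 := fun w hw h =>
          hw (((a : R G y) : Perm α).injective (h.trans h0.symm))
        have h1 := (hmem _).1 (hmap _ ((hmem (x 1)).2 (Or.inr (Or.inl rfl))))
        have h2 := (hmem _).1 (hmap _ ((hmem e).2 (Or.inr (Or.inr rfl))))
        have h1' := h1.resolve_left (hne _ (fun h => absurd (x.injective h) (by decide)))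
        have h2' := h2.resolve_left (hne _ (fun h => he.1 ⟨0, h.symm⟩))
        have hm := H.pow_card_R (a : R G y).2
        exact ⟨fix_pair (H.odd y) hm h1' h2', fix_pair (H.odd y) hm h2'.symm h1'.symm⟩
      let f : A → B := fun a => ⟨⟨((a : R G y) : Perm α), mem_R_of_acts_one (a : R G y).2.1 fun i => by
        fin_cases i
        · exact a.2
        · exact (hA_fix a).1
        · exact hy0 ▸ (a : R G y).2.2 0
        · exact hy1 ▸ (a : R G y).2.2 1⟩, (hA_fix a).2⟩
      have hf : Function.Injective f := fun a b hab =>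
        Subtype.ext (Subtype.ext (congrArg (fun s : B => ((s : R G x) : Perm α)) hab :))
      have hf' : Function.Bijective f := by
        refine (Nat.bijective_iff_injective_and_card f).2 ⟨hf, ?_⟩
        have := H.card_R_eq x y
        omega
      intro r hr hre
      obtain ⟨a, ha⟩ := hf'.2 ⟨⟨r, hr⟩, hre⟩
      have h' : ((a : R G y) : Perm α) = r := congrArg (fun s : B => ((s : R G x) : Perm α)) ha
      rw [← hy2, ← h']
      exact (a : R G y).2.2 2
    intro r hr hre
    ext z
    by_cases hz : z ∈ Set.range x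
    · obtain ⟨i, rfl⟩ := hz
      exact hr.2 i
    · by_cases hze : z = e
      · rw [hze]; exact hre
      · exact hall z hz hze r hr hre
  have hR3 : Nat.card (R G x) = 3 := by
    rw [← Subgroup.card_mul_index (stabilizer (R G x) e), index_stabilizer, horbO e heO, hO,
      show stabilizer (R G x) e = ⊥ from (Subgroup.eq_bot_iff_forall _).2 fun r hr =>
        Subtype.ext (hstab r r.2 hr), Subgroup.card_bot, one_mul]
  -- the stabiliser centralises the double transpositions
  have hC : CentT G x := by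
    have hgen : ∀ r ∈ R G x, r ∈ Subgroup.zpowers c := by
      intro r hr
      have h := mem_zpowers_of_prime_card (g := (⟨c, hcR⟩ : R G x)) (g' := ⟨r, hr⟩) hR3 (fun h => hce (by
        rw [show c = 1 from congrArg Subtype.val h]; rfl))
      obtain ⟨i, hi⟩ := Subgroup.mem_zpowers_iff.1 h
      exact ⟨i, by simpa using congrArg Subtype.val hi⟩
    have hcomm : ∀ r ∈ R G x, Commute r (u * v) := fun r hr => by
      obtain ⟨i, rfl⟩ := Subgroup.mem_zpowers_iff.1 (hgen r hr)
      exact hcT.zpow_left i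
    intro T hT hT' hTa r hr
    obtain ⟨q, hq, -, hqT⟩ := H.exists_conj (G.mul_mem hu hv) hT (mul_self_of_comm hu2 hv2 huv) hT'
      (acts_uv hua hva) hTa
    rw [← hqT, mul_inv_eq_iff_eq_mul.2 (hcomm q hq).eq]
    exact hcomm r hr
  refine ⟨(degree_seven H hn h7 hu hu2 hua he (fun r hr hru => hstab r hr ?_) (fun y => hC.transport H y)
    (by omega)).1, hR3⟩
  refine he.eq_of_notMem ?_ (notMem_range_of_mem_orbit he.1 ⟨⟨r, hr⟩, rfl⟩)
  rw [← Perm.mul_apply, ← hru.eq, Perm.mul_apply, he.2.1]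

/-- If the third point is fixed by the stabiliser, the stabiliser is trivial. -/
theorem case_one (H : Hyp G) (hn : Odd (Fintype.card α)) (h7 : 7 ≤ Fintype.card α)
    {x : Fin 4 ↪ α} (hA : PropA G x) : Nat.card (R G x) = 1 := by
  classical
  by_contra hR
  set π : Perm (Fin 4) := swap 0 2 * swap 1 3 with hπ
  have hp : Fact (Nat.Prime 3) := ⟨Nat.prime_three⟩
  obtain ⟨P, hP⟩ := exists_sylowR G x 3
  obtain ⟨u, v, e, hu, hv, hu2, hv2, huv, hua, hva, he, hve, -⟩ := exists_setup H hn hP
  have hva' : Acts (π.toEmbedding.trans x) v σA := hva.to_perm (by decide)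
  have hTa := acts_uv hua hva
  have hT2 := mul_self_of_comm hu2 hv2 huv
  have hT3 := card_fixSet_double H hn h7 (G.mul_mem hu hv) hT2 hTa
  have hTe : (u * v) e = e := by rw [Perm.mul_apply, hve, he.2.1]
  -- the two further fixed points of the double transposition
  obtain ⟨f, g, hfe, hge, hfg, hset⟩ : ∃ f g, f ≠ e ∧ g ≠ e ∧ f ≠ g ∧
      ∀ z, (u * v) z = z ↔ z = e ∨ z = f ∨ z = g := by
    have hmem : e ∈ fixSet (u * v) := mem_fixSet.2 hTe
    obtain ⟨f, g, hfg, hfg'⟩ := Finset.card_eq_two.1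
      (show ((fixSet (u * v)).erase e).card = 2 by rw [Finset.card_erase_of_mem hmem, hT3])
    refine ⟨f, g, ?_, ?_, hfg, fun z => ?_⟩
    · have : f ∈ (fixSet (u * v)).erase e := by rw [hfg']; simp
      exact Finset.ne_of_mem_erase this
    · have : g ∈ (fixSet (u * v)).erase e := by rw [hfg']; simp
      exact Finset.ne_of_mem_erase this
    · rw [← mem_fixSet]
      by_cases hze : z = e
      · simp [hze, hmem]
      · have : z ∈ (fixSet (u * v)).erase e ↔ z ∈ fixSet (u * v) := by simp [hze]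
        rw [← this, hfg']; simp [hze]
  have hfix3 : ∀ r ∈ R G x, Commute r (u * v) → r f = f ∧ r g = g := by
    intro r hr hc
    have hre : r e = e := hA u hu hu2 hua e he r hr
    have h1 := (mem_three_of_commute hc hset (z := f) (Or.inr (Or.inl rfl))).resolve_left
      (fun h => hfe (r.injective (h.trans hre.symm)))
    have h2 := (mem_three_of_commute hc hset (z := g) (Or.inr (Or.inr rfl))).resolve_left
      (fun h => hge (r.injective (h.trans hre.symm)))
    exact ⟨fix_pair (H.odd x) (H.pow_card_R hr) h1 h2,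
      fix_pair (H.odd x) (H.pow_card_R hr) h2.symm h1.symm⟩
  have houtT : ∀ z, z = f ∨ z = g → z ∉ Set.range x := by
    rintro z hz ⟨i, rfl⟩
    have h := (hset (x i)).2 (hz.elim (fun h => Or.inr (Or.inl h)) (fun h => Or.inr (Or.inr h)))
    have h' : σT i = i := x.injective ((hTa i).symm.trans h)
    have hσ : ∀ i : Fin 4, σT i ≠ i := by decide
    exact hσ i h'
  by_cases hextra : ∃ z, z ∉ Set.range x ∧ z ≠ e ∧ ∀ r ∈ R G x, r z = z
  · obtain ⟨z, hz, hze, hzfix⟩ := hextra
    have hfree : ∀ (π : Perm (Fin 4)) (w : Perm α), w ∈ G → w * w = 1 →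
        Acts (π.toEmbedding.trans x) w σA → Third (π.toEmbedding.trans x) w e →
        ∀ r ∈ R G x, Commute r w → r = 1 := by
      intro π w hw hw2 hwa hwe r hr hrw
      set x' := π.toEmbedding.trans x
      have hr' : r ∈ R G x' := by rw [R_perm]; exact hr
      have hre : r e = e := hA u hu hu2 hua e he r hr
      ext a
      by_cases ha : a ∈ Set.range x
      · obtain ⟨i, rfl⟩ := ha
        exact hr.2 i
      by_cases hae : a = e
      · rw [hae]; exact hre
      have hz' : z ∉ Set.range x' := by rw [range_perm]; exact hz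
      have ha' : a ∉ Set.range x' := by rw [range_perm]; exact ha
      have h23 : w (x' 2) = x' 3 := hwa 2
      obtain ⟨k, hk, hkw, hk2, hkz⟩ := H.exists_commute_map hw hw2 (c := x' 2)
        (by rw [h23]; exact fun h => absurd (x'.injective h) (by decide))
        (hwe.moved hz' hze) (fun h => hz' ⟨2, h.symm⟩) (fun h => hz' ⟨3, (h.trans h23).symm⟩)
        (hwe.moved ha' hae) (fun h => ha' ⟨2, h.symm⟩) (fun h => ha' ⟨3, (h.trans h23).symm⟩)
      have hk3 : k (x' 3) = x' 3 := by rw [← h23, ← Perm.mul_apply, hkw.eq, Perm.mul_apply, hk2]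
      have hrfix : ∀ b, b = x' 0 ∨ b = x' 1 ∨ b = e → r b = b := by
        rintro b (rfl | rfl | rfl)
        exacts [hr'.2 0, hr'.2 1, hre]
      have hmem : k⁻¹ * r * k ∈ R G x := by
        rw [← R_perm x π]
        refine mem_R_of_acts_one (G.mul_mem (G.mul_mem (G.inv_mem hk) hr.1) hk) fun i => ?_
        change k⁻¹ (r (k (x' i))) = x' i
        rw [Perm.inv_eq_iff_eq]
        fin_cases i
        · exact hrfix _ (mem_three_of_commute hkw (hwe.iff hwa) (Or.inl rfl))
        · exact hrfix _ (mem_three_of_commute hkw (hwe.iff hwa) (Or.inr (Or.inl rfl)))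
        · simpa [hk2] using hr'.2 2
        · simpa [hk3] using hr'.2 3
      have h := hzfix _ hmem
      rw [Perm.mul_apply, Perm.mul_apply, hkz, Perm.inv_eq_iff_eq, hkz] at h
      exact h
    have he1 : Third ((1 : Perm (Fin 4)).toEmbedding.trans x) u e := he
    have hev : Third (π.toEmbedding.trans x) v e := by
      obtain ⟨e', he'⟩ := exists_third H hn hv hv2 hva'
      rwa [he'.eq_of_notMem hve (by rw [range_perm]; exact he.1)]
    have hfu := hfree 1 u hu hu2 hua he1
    have hfv := hfree π v hv hv2 hva' hev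
    -- fixed-point-free involutions invert
    have hinv : ∀ (w : Perm α) (σ : Perm (Fin 4)), w ∈ G → Acts x w σ → w * w = 1 →
        (∀ r ∈ R G x, Commute r w → r = 1) → ∀ r ∈ R G x, w * r * w⁻¹ = r⁻¹ := by
      intro w σ hw hwa hw2 hf r hr
      have hwi : w⁻¹ = w := inv_eq_of_mul_eq_one_right hw2
      have hconj : ∀ s ∈ R G x, w * s * w⁻¹ ∈ R G x := by
        intro s hs
        refine mem_R_of_acts_one (G.mul_mem (G.mul_mem hw hs.1) (G.inv_mem hw)) ?_
        have := (hwa.mul (acts_one_of_mem hs)).mul hwa.inv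
        simpa using this
      let φ : R G x → R G x := fun s =>
        ⟨(s : Perm α)⁻¹ * (w * s * w⁻¹), (R G x).mul_mem ((R G x).inv_mem s.2) (hconj s s.2)⟩
      have hφ : Function.Injective φ := by
        intro s t hst
        have h : (s : Perm α)⁻¹ * (w * s * w⁻¹) = (t : Perm α)⁻¹ * (w * t * w⁻¹) := congrArg Subtype.val hst
        have h1 : w * ((t : Perm α) * (s : Perm α)⁻¹)⁻¹ * w⁻¹
            = ((t : Perm α) * (s : Perm α)⁻¹)⁻¹ := by
          calc w * ((t : Perm α) * (s : Perm α)⁻¹)⁻¹ * w⁻¹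
              = (s : Perm α) * ((s : Perm α)⁻¹ * (w * s * w⁻¹)) * (w * (t : Perm α)⁻¹ * w⁻¹) := by group
            _ = (s : Perm α) * ((t : Perm α)⁻¹ * (w * t * w⁻¹)) * (w * (t : Perm α)⁻¹ * w⁻¹) := by rw [h]
            _ = ((t : Perm α) * (s : Perm α)⁻¹)⁻¹ := by group
        have h2 := hf _ ((R G x).inv_mem ((R G x).mul_mem t.2 ((R G x).inv_mem s.2)))
          (mul_inv_eq_iff_eq_mul.1 h1).symm
        rw [inv_eq_one] at h2
        exact Subtype.ext (mul_inv_eq_one.1 h2).symm
      obtain ⟨s, hs⟩ := Finite.surjective_of_injective hφ ⟨r, hr⟩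
      have hs' : r = (s : Perm α)⁻¹ * (w * s * w⁻¹) := (congrArg Subtype.val hs).symm
      rw [hs', hwi]
      calc w * ((s : Perm α)⁻¹ * (w * s * w)) * w = w * (s : Perm α)⁻¹ * w * s * (w * w) := by group
        _ = w * (s : Perm α)⁻¹ * w * s := by rw [hw2, mul_one]
        _ = w⁻¹ * (s : Perm α)⁻¹ * w⁻¹ * s := by rw [hwi]
        _ = ((s : Perm α)⁻¹ * (w * s * w))⁻¹ := by group
    have hcentuv : ∀ r ∈ R G x, Commute r (u * v) := by
      intro r hr
      have h : u * v * r * (u * v)⁻¹ = r := by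
        calc u * v * r * (u * v)⁻¹ = u * (v * r * v⁻¹) * u⁻¹ := by group
          _ = r := by rw [hinv v σB hv hva hv2 hfv r hr, hinv u σA hu hua hu2 hfu _ ((R G x).inv_mem hr), inv_inv]
      exact (mul_inv_eq_iff_eq_mul.1 h).symm
    have hC : CentT G x := by
      intro T hT hT' hTa' r hr
      obtain ⟨q, hq, -, hqT⟩ := H.exists_conj (G.mul_mem hu hv) hT hT2 hT' hTa hTa'
      rw [← hqT, mul_inv_eq_iff_eq_mul.2 (hcentuv q hq).eq]
      exact hcentuv r hr
    obtain ⟨h7', -⟩ := degree_seven H hn h7 hu hu2 hua he hfu (fun y => hC.transport H y) hR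
    apply hR
    rw [show R G x = ⊥ from (Subgroup.eq_bot_iff_forall _).2 fun r hr => ?_, Subgroup.card_bot]
    ext a
    by_cases ha : a ∈ Set.range x
    · obtain ⟨i, rfl⟩ := ha
      exact hr.2 i
    · have : a = e ∨ a = f ∨ a = g := by
        by_contra! hne
        have hsub : insert a {e, f, g} ⊆ Finset.univ \ Finset.univ.map x := by
          intro b hb
          simp only [Finset.mem_insert, Finset.mem_singleton] at hb
          simp only [Finset.mem_sdiff, Finset.mem_univ, true_and, Finset.mem_map]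
          rintro ⟨i, rfl⟩
          rcases hb with h | h | h | h
          exacts [ha ⟨i, h⟩, he.1 ⟨i, h⟩, houtT _ (Or.inl h) ⟨i, rfl⟩, houtT _ (Or.inr h) ⟨i, rfl⟩]
        have := Finset.card_le_card hsub
        rw [Finset.card_sdiff_of_subset (Finset.subset_univ _), Finset.card_univ, Finset.card_map,
          Finset.card_univ, Fintype.card_fin, h7',
          Finset.card_insert_of_notMem (by simp [hne.1, hne.2.1, hne.2.2]),
          Finset.card_insert_of_notMem (by simp [hfe.symm, hge.symm]), Finset.card_pair hfg] at this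
        omega
      rcases this with rfl | rfl | rfl
      exacts [hA u hu hu2 hua a he r hr, (hfix3 r hr (hcentuv r hr)).1, (hfix3 r hr (hcentuv r hr)).2]
  · push Not at hextra
    -- exactly five fixed points for every quadruple
    have five : ∀ (y : Fin 4 ↪ α) (a b : α), a ∉ Set.range y → b ∉ Set.range y →
        (∀ r ∈ R G y, r a = a) → (∀ r ∈ R G y, r b = b) → a = b := by
      intro y a b ha hb hfa hfb
      obtain ⟨k, hk, hky⟩ := H.exists_map x y
      have key : ∀ c, c ∉ Set.range y → (∀ r ∈ R G y, r c = c) → k⁻¹ c = e := by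
        intro c hc hfc
        by_contra hne
        have hcx : k⁻¹ c ∉ Set.range x := by
          rintro ⟨i, hi⟩
          exact hc ⟨i, by rw [← hky, hi]; simp⟩
        obtain ⟨r, hr, hrc⟩ := hextra _ hcx hne
        have hk' : ∀ i, k⁻¹ (y i) = x i := fun i => by rw [Perm.inv_eq_iff_eq, hky]
        have := hfc _ (conj_mem_R (G.inv_mem hk) hk' hr)
        rw [inv_inv, Perm.mul_apply, Perm.mul_apply] at this
        apply hrc
        apply k.injective
        rw [this]; simp
      exact k⁻¹.injective ((key a ha hfa).trans (key b hb hfb).symm)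
    have hfixed : ∀ (y : Fin 4 ↪ α) (w : Perm α), w ∈ G → w * w = 1 → Acts y w σA → ∀ a, Third y w a →
        ∀ r ∈ R G y, r a = a := fun y w hw hw2 hwa a ha r hr => (hA.transport H y) w hw hw2 hwa a ha r hr
    -- involutions fixing two of the points are central
    have hcentral : ∀ (π : Perm (Fin 4)) (w : Perm α), w ∈ G → w * w = 1 →
        Acts (π.toEmbedding.trans x) w σA → ∀ r ∈ R G x, Commute r w := by
      intro π w hw hw2 hwa r hr
      set x' := π.toEmbedding.trans x
      have hr' : r ∈ R G x' := by rw [R_perm]; exact hr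
      set w' := r * w * r⁻¹ with hw'
      have hw'G : w' ∈ G := G.mul_mem (G.mul_mem hr.1 hw) (G.inv_mem hr.1)
      have hw'2 : w' * w' = 1 := by
        rw [hw', show r * w * r⁻¹ * (r * w * r⁻¹) = r * (w * w) * r⁻¹ by group, hw2]; group
      have hw'a : Acts x' w' σA := by
        have := ((acts_one_of_mem hr').mul hwa).mul (acts_one_of_mem hr').inv
        simpa using this
      obtain ⟨a, ha⟩ := exists_third H hn hw hw2 hwa
      obtain ⟨a', ha'⟩ := exists_third H hn hw'G hw'2 hw'a
      obtain rfl : a = a' := five x' a a' ha.1 ha'.1 (hfixed x' w hw hw2 hwa a ha)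
        (hfixed x' w' hw'G hw'2 hw'a a' ha')
      suffices w' = w from mul_inv_eq_iff_eq_mul.1 this
      ext z
      by_cases hz : z ∈ Set.range x'
      · obtain ⟨i, rfl⟩ := hz
        rw [hw'a i, hwa i]
      by_cases hza : z = a
      · rw [hza, ha.2.1, ha'.2.1]
      have h01 : x' 0 ≠ x' 1 := fun h => absurd (x'.injective h) (by decide)
      have h0z : x' 0 ≠ z := fun h => hz ⟨0, h⟩
      have h1z : x' 1 ≠ z := fun h => hz ⟨1, h⟩
      let q := emb4 (x' 0) (x' 1) z a h01 h0z (fun h => ha.1 ⟨0, h⟩) h1z (fun h => ha.1 ⟨1, h⟩) hza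
      have key : ∀ t : Perm α, t ∈ G → t * t = 1 → Acts x' t σA → Third x' t a →
          t z ∉ Set.range q ∧ ∀ s ∈ R G q, s (t z) = t z := by
        intro t ht ht2 hta htt
        have htt' : ∀ b, t (t b) = b := fun b => by rw [← Perm.mul_apply, ht2]; rfl
        have htz := htt.moved hz hza
        have htzr := apply_not_mem_range hta hz
        have htza : t z ≠ a := fun h => hza (t.injective (h.trans htt.2.1.symm))
        let y := emb4 (x' 0) (x' 1) z (t z) h01 h0z (fun h => htzr ⟨0, h⟩) h1z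
          (fun h => htzr ⟨1, h⟩) htz.symm
        have hya : Acts y t σA := by
          intro i
          fin_cases i
          exacts [hta 0, hta 1, rfl, htt' z]
        have hty : Third y t a := by
          refine ⟨?_, htt.2.1, fun b hb => htt.2.2 b hb⟩
          rintro ⟨i, hi⟩
          fin_cases i
          exacts [ha.1 ⟨0, hi⟩, ha.1 ⟨1, hi⟩, hza hi, htza hi]
        have hle : R G y ≤ R G q := fun s hs => by
          refine mem_R_of_acts_one hs.1 fun i => ?_
          fin_cases i
          exacts [hs.2 0, hs.2 1, hs.2 2, hfixed y t ht ht2 hya a hty s hs]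
        have heq : R G y = R G q := Subgroup.eq_of_le_of_card_ge hle (H.card_R_eq q y).le
        refine ⟨?_, fun s hs => ?_⟩
        · rintro ⟨i, hi⟩
          fin_cases i
          exacts [htzr ⟨0, hi⟩, htzr ⟨1, hi⟩, htz hi.symm, htza hi.symm]
        · rw [← heq] at hs
          exact hs.2 3
      obtain ⟨k1, k2⟩ := key w hw hw2 hwa ha
      obtain ⟨k1', k2'⟩ := key w' hw'G hw'2 hw'a ha'
      exact five q _ _ k1' k1 k2' k2
    have hcent : ∀ r ∈ R G x, Commute r (u * v) := fun r hr =>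
      (hcentral 1 u hu hu2 hua r hr).mul_right (hcentral π v hv hv2 hva' r hr)
    obtain ⟨r, hr, hrf⟩ := hextra f (houtT f (Or.inl rfl)) hfe
    exact hrf (hfix3 r hr (hcent r hr)).1

theorem card_R_odd (H : Hyp G) (hn : Odd (Fintype.card α)) (h7 : 7 ≤ Fintype.card α) (x : Fin 4 ↪ α) :
    Nat.card (R G x) = 1 ∨ (Fintype.card α = 7 ∧ Nat.card (R G x) = 3) := by
  by_cases hA : PropA G x
  · exact Or.inl (case_one H hn h7 hA)
  · exact Or.inr (case_three H hn h7 hA)

end CfsgLib.FourTransitive
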